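import Groth.Agent.ConjAvgLib.Main
import Groth.Agent.SqLiftLib.Smooth
import Groth.Agent.DescHomLib.MultBC

/-!
Conjugating points of a smooth group between homomorphisms from a group of multiplicative type lift along nilpotent
thickenings.
-/

set_option autoImplicit false
set_option backward.isDefEq.respectTransparency false

noncomputable section


universe u

open CategoryTheory CategoryTheory.Limits MonoidalCategory CartesianMonoidalCategory AlgebraicGeometry CoactBr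
open scoped MonObj

namespace Groth.Agent.ConjAvg

attribute [local instance] CoactBr.braidedAlgSpecOf

variable {R : Type u} [CommRing R] {G H : Over (Spec (CommRingCat.of R))} [GrpObj G] [GrpObj H]

/-- Being locally diagonalisable is stable under base change. -/
theorem locally_bc {T : Scheme.{u}} (p : T ⟶ Spec (CommRingCat.of R))
    (hH : TwC.Locally (Spec (CommRingCat.of R)) TwC.Topology.fpqc (fun S' f => ∃ (M : Type) (_ : AddCommGroup M),
      Nonempty (Grp.mk (Red.bc f H) ≅ Grp.mk (Red.DS S' M)))) :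
    TwC.Locally T TwC.Topology.fpqc (fun S' f => ∃ (M : Type) (_ : AddCommGroup M),
      Nonempty (Grp.mk (Red.bc f (Red.bc p H)) ≅ Grp.mk (Red.DS S' M))) := by
  obtain ⟨S', f, hflat, hsurj, hcov, hloc⟩ := hH
  haveI := hflat
  haveI := hsurj
  refine ⟨pullback p f, pullback.fst p f, inferInstance, inferInstance, DescHom.hcov_pullback_snd f p hcov,
    fun z => ?_⟩
  obtain ⟨U, hU, M, hM, ⟨e⟩⟩ := hloc (pullback.snd p f z)
  refine ⟨(pullback.snd p f) ⁻¹ᵁ U, hU, M, hM,
    DescHom.nonempty_iso_bc e p _ ((pullback.snd p f).resLE U _ le_rfl) ?_⟩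
  rw [Scheme.Hom.resLE_comp_ι_assoc, Category.assoc, pullback.condition]

/-- A point conjugates one homomorphism into the other. -/
def Rel (u v : H ⟶ G) {A : Type u} [CommRing A] [Algebra R A] (g : sp R A ⟶ G) : Prop :=
  ∀ (X : Over (Spec (CommRingCat.of R))) (p : X ⟶ sp R A) (h : X ⟶ H), (h ≫ v) * (p ≫ g) = (p ≫ g) * (h ≫ u)

/-- Conjugating points lift along square-zero thickenings. -/
theorem exists_rel_sq [Smooth G.hom]
    (hH : TwC.Locally (Spec (CommRingCat.of R)) TwC.Topology.fpqc (fun S' f => ∃ (M : Type) (_ : AddCommGroup M),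
      Nonempty (Grp.mk (Red.bc f H) ≅ Grp.mk (Red.DS S' M))))
    (u v : H ⟶ G) [IsMonHom u] [IsMonHom v] {A : Type u} [CommRing A] [Algebra R A] {K : Ideal A} (hK : K ^ 2 = ⊥)
    (g₀ : sp R (A ⧸ K) ⟶ G) (h0 : Rel u v g₀) :
    ∃ g : sp R A ⟶ G, pt (Ideal.Quotient.mkₐ R K) ≫ g = g₀ ∧ Rel u v g := by
  let p : Spec (CommRingCat.of A) ⟶ Spec (CommRingCat.of R) := (sp R A).hom
  let adj := Over.mapPullbackAdj p
  let u' : Red.bc p H ⟶ Red.bc p G := (Over.pullback p).map u
  let v' : Red.bc p H ⟶ Red.bc p G := (Over.pullback p).map v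
  haveI : IsMonHom u' := DiagRep.isMonHom_bc_map p u
  haveI : IsMonHom v' := DiagRep.isMonHom_bc_map p v
  haveI : Smooth (Red.bc p G).hom := inferInstanceAs (Smooth (pullback.snd G.hom p))
  let εK : (Over.map p).obj (SqLift.S₀ K) ⟶ sp R (A ⧸ K) := Over.homMk (𝟙 _) (by
    show 𝟙 _ ≫ Spec.map (CommRingCat.ofHom (algebraMap R (A ⧸ K))) =
      Spec.map (CommRingCat.ofHom (Ideal.Quotient.mk K)) ≫ Spec.map (CommRingCat.ofHom (algebraMap R A))
    rw [Category.id_comp, ← Spec.map_comp, ← CommRingCat.ofHom_comp]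
    rfl)
  obtain ⟨s, hs⟩ := SqLift.exists_lift_sq (X := Red.bc p G) hK (adj.homEquiv _ G (εK ≫ g₀))
  let u'' : Red.bc p H ⟶ Red.bc p G := u' ≫ AGF.conjBy s (𝟙 (Red.bc p G))
  haveI : IsMonHom (AGF.conjBy s (𝟙 (Red.bc p G))) := DiagRep.isMonHom_conjBy s
  haveI : IsMonHom u'' := inferInstanceAs (IsMonHom (u' ≫ AGF.conjBy s (𝟙 (Red.bc p G))))
  have hu'' : ∀ {Y : Over (Spec (CommRingCat.of A))} (h : Y ⟶ Red.bc p H),
      h ≫ u'' = (toUnit Y ≫ s) * (h ≫ u') * (toUnit Y ≫ s)⁻¹ := fun {Y} h => by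
    rw [show u'' = AGF.conjBy s u' from (DiagRep.conjBy_eq_comp s u').symm, AGF.conjBy, MonObj.comp_mul,
      MonObj.comp_mul, GrpObj.comp_inv, ← Category.assoc, toUnit_unique (h ≫ toUnit _) (toUnit Y)]
  obtain ⟨k, hk1, hk⟩ := exists_conj hK (locally_bc p hH) u'' v' (fun C _ _ hC h => by
    obtain ⟨h₀, rfl⟩ := (adj.homEquiv (sp A C) H).surjective h
    have hs' : toUnit (sp A C) ≫ s =
        adj.homEquiv (sp A C) G (((Over.map p).map (SqLift.toS₀ C hC) ≫ εK) ≫ g₀) := by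
      rw [toUnit_unique (toUnit (sp A C)) (SqLift.toS₀ C hC ≫ toUnit _), Category.assoc, hs, Category.assoc,
        Adjunction.homEquiv_naturality_left]
    have e := congrArg (adj.homEquiv (sp A C) G) (h0 _ ((Over.map p).map (SqLift.toS₀ C hC) ≫ εK) h₀)
    rw [AlgGrp.Action.homEquiv_mul, AlgGrp.Action.homEquiv_mul, adj.homEquiv_naturality_right h₀ v,
      adj.homEquiv_naturality_right h₀ u, ← hs'] at e
    exact (hu'' _).trans ((congrArg (· * (toUnit (sp A C) ≫ s)⁻¹) e.symm).trans (mul_inv_cancel_right _ _)))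
  let g' : 𝟙_ (Over (Spec (CommRingCat.of A))) ⟶ Red.bc p G := k * s
  let εA : sp R A ⟶ (Over.map p).obj (𝟙_ (Over (Spec (CommRingCat.of A)))) := Over.homMk (𝟙 _) (by
    show 𝟙 _ ≫ 𝟙 _ ≫ p = _
    rw [Category.id_comp, Category.id_comp])
  refine ⟨εA ≫ (adj.homEquiv _ G).symm g', ?_, fun X q h => ?_⟩
  · haveI : IsIso ((Over.forget _).map εK) := inferInstanceAs (IsIso (𝟙 _))
    haveI : IsIso εK := isIso_of_reflects_iso _ (Over.forget _)
    have e : εK ≫ pt (Ideal.Quotient.mkₐ R K) ≫ εA = (Over.map p).map (toUnit (SqLift.S₀ K)) := by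
      refine Over.OverMorphism.ext ?_
      have ht : (toUnit (SqLift.S₀ K)).left = (SqLift.S₀ K).hom :=
        (Category.comp_id _).symm.trans (Over.w (toUnit _))
      show 𝟙 _ ≫ Spec.map (CommRingCat.ofHom (Ideal.Quotient.mk K)) ≫ 𝟙 _ = (toUnit (SqLift.S₀ K)).left
      rw [ht, Category.id_comp, Category.comp_id]
      rfl
    rw [← cancel_epi εK, ← Category.assoc, ← Category.assoc, Category.assoc εK, e,
      ← adj.homEquiv_naturality_left_symm, MonObj.comp_mul, hk1, hs, one_mul, Equiv.symm_apply_apply]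
  · let X' : Over (Spec (CommRingCat.of A)) := Over.mk q.left
    let ε : (Over.map p).obj X' ⟶ X := Over.homMk (𝟙 _) (by
      show 𝟙 _ ≫ X.hom = q.left ≫ p
      rw [Category.id_comp, Over.w q])
    haveI : IsIso ((Over.forget _).map ε) := inferInstanceAs (IsIso (𝟙 _))
    haveI : IsIso ε := isIso_of_reflects_iso _ (Over.forget _)
    have e : ε ≫ q ≫ εA = (Over.map p).map (toUnit X') := by
      refine Over.OverMorphism.ext ?_
      have ht : (toUnit X').left = X'.hom := (Category.comp_id _).symm.trans (Over.w (toUnit _))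
      show 𝟙 _ ≫ q.left ≫ 𝟙 _ = (toUnit X').left
      rw [ht, Category.id_comp, Category.comp_id]
      rfl
    have e' : ε ≫ q ≫ εA ≫ (adj.homEquiv _ G).symm g' = (adj.homEquiv X' G).symm (toUnit X' ≫ g') := by
      rw [adj.homEquiv_naturality_left_symm, ← e, Category.assoc, Category.assoc]
    rw [← cancel_epi ε, MonObj.comp_mul, MonObj.comp_mul, e']
    refine (adj.homEquiv X' G).injective ?_
    let w : X' ⟶ Red.bc p H := adj.homEquiv X' H (ε ≫ h)
    have hv : adj.homEquiv X' G (ε ≫ h ≫ v) = w ≫ v' :=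
      (congrArg (adj.homEquiv X' G) (Category.assoc _ _ _).symm).trans (adj.homEquiv_naturality_right (ε ≫ h) v)
    have hu : adj.homEquiv X' G (ε ≫ h ≫ u) = w ≫ u' :=
      (congrArg (adj.homEquiv X' G) (Category.assoc _ _ _).symm).trans (adj.homEquiv_naturality_right (ε ≫ h) u)
    rw [AlgGrp.Action.homEquiv_mul, AlgGrp.Action.homEquiv_mul, Equiv.apply_symm_apply, hv, hu]
    have key : w ≫ v' = (toUnit X' ≫ g') * (w ≫ u') * (toUnit X' ≫ g')⁻¹ := by
      rw [hk X' w, hu'', MonObj.comp_mul]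
      simp only [mul_assoc, mul_inv_rev]
    rw [key, inv_mul_cancel_right]

/-- Conjugating points lift along nilpotent thickenings. -/
theorem exists_rel_nilpotent [Smooth G.hom]
    (hH : TwC.Locally (Spec (CommRingCat.of R)) TwC.Topology.fpqc (fun S' f => ∃ (M : Type) (_ : AddCommGroup M),
      Nonempty (Grp.mk (Red.bc f H) ≅ Grp.mk (Red.DS S' M))))
    (u v : H ⟶ G) [IsMonHom u] [IsMonHom v] {A : Type u} [CommRing A] [iA : Algebra R A] {K : Ideal A}
    (hK : IsNilpotent K) (g₀ : sp R (A ⧸ K) ⟶ G) (h0 : Rel u v g₀) :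
    ∃ g : sp R A ⟶ G, pt (Ideal.Quotient.mkₐ R K) ≫ g = g₀ ∧ Rel u v g := by
  revert iA g₀
  refine Ideal.IsNilpotent.induction_on K hK
    (P := fun S _ I => ∀ [Algebra R S] (g₀ : sp R (S ⧸ I) ⟶ G), Rel u v g₀ →
      ∃ g : sp R S ⟶ G, pt (Ideal.Quotient.mkₐ R I) ≫ g = g₀ ∧ Rel u v g) ?_ ?_
  · intro S _ I hI _ g₀ h0
    exact exists_rel_sq hH u v hI g₀ h0
  · intro S _ I J hIJ hPI hPJ _ g₀ h0
    let e : ((S ⧸ I) ⧸ J.map (Ideal.Quotient.mk I)) ≃ₐ[R] S ⧸ J := DoubleQuot.quotQuotEquivQuotOfLEₐ R hIJ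
    obtain ⟨g₁, hg₁, hr₁⟩ := hPJ (pt e.symm.toAlgHom ≫ g₀) fun X q h => by
      rw [← Category.assoc]
      exact h0 X _ h
    obtain ⟨g, hg, hr⟩ := hPI g₁ hr₁
    refine ⟨g, ?_, hr⟩
    have e1 : Ideal.Quotient.mkₐ R J =
        (e.toAlgHom.comp (Ideal.Quotient.mkₐ R (J.map (Ideal.Quotient.mk I)))).comp (Ideal.Quotient.mkₐ R I) :=
      AlgHom.ext fun _ => rfl
    rw [e1, pt_comp, pt_comp, Category.assoc, Category.assoc, hg, hg₁, ← Category.assoc, ← pt_comp,
      show e.toAlgHom.comp e.symm.toAlgHom = AlgHom.id R _ from AlgHom.ext e.apply_symm_apply, pt_id',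
      Category.id_comp]

end Groth.Agent.ConjAvg
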