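import Groth.Agent.ConjAvgLib.Iso

/-!
Gluing the lifts of homomorphisms of groups of multiplicative type.
-/

set_option autoImplicit false
set_option backward.isDefEq.respectTransparency false

noncomputable section

universe u

open CategoryTheory CategoryTheory.Limits MonoidalCategory CartesianMonoidalCategory AlgebraicGeometry CoactBr
open scoped MonObj

namespace Groth.Agent.ConjAvg

open Groth.Agent.FreeAct (DA)
open Groth.Agent.DiagRep (isMonHom_bc_map)

attribute [local instance] CoactBr.braidedAlgSpecOf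

variable {R : Type u} [CommRing R] {G H H' : Over (Spec (CommRingCat.of R))} [GrpObj G] [GrpObj H] [GrpObj H']

/-- Groups of multiplicative type are commutative. -/
theorem comm_of_locally
    (hH : TwC.Locally (Spec (CommRingCat.of R)) TwC.Topology.fpqc (fun S' f => ∃ (M : Type) (_ : AddCommGroup M),
      Nonempty (Grp.mk (Red.bc f H) ≅ Grp.mk (Red.DS S' M)))) : Comm H := by
  intro X a b
  obtain ⟨Z, π, _, _, P, jz, -, hP⟩ := exists_pieces hH hH
  choose hι hmem hιπ using hP
  let 𝒰 : Z.OpenCover := Scheme.Cover.mkOfCovers Z (fun z : Z => Spec (CommRingCat.of (P z).B)) jz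
    (fun z => let ⟨t, ht⟩ := hmem z; ⟨z, t, ht⟩) fun z => hι z
  have halg : ∀ z, ∃ φ : CommRingCat.of R ⟶ CommRingCat.of (P z).B, Spec.map φ = (P z).p :=
    fun z => Spec.map_surjective _
  choose φ hφ using halg
  letI : ∀ z, Algebra R (P z).B := fun z => (φ z).hom.toAlgebra
  have hp : ∀ z, (sp R (P z).B).hom = (P z).p := fun z => by
    show Spec.map (CommRingCat.ofHom (φ z).hom) = _
    rw [CommRingCat.ofHom_hom, hφ z]
  refine eq_of_cover π 𝒰 (fun z => (P z).B) (fun z => 𝟙 _) (fun z => (hιπ z).trans ((hp z).symm.trans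
    (Category.id_comp _).symm)) _ _ fun z C _ _ β y => ?_
  obtain ⟨w, hw⟩ := MultLift.exists_split_iso (P z).e (P z).j (sp R (P z).B).hom ((P z).hj.trans (hp z).symm)
  haveI := hw
  letI : Algebra (P z).B C := β.toRingHom.toAlgebra
  haveI : IsScalarTower R (P z).B C := IsScalarTower.of_algebraMap_eq fun r => (β.commutes r).symm
  obtain ⟨χ, hχ⟩ := pts_surjective w C (y ≫ a)
  obtain ⟨χ', hχ'⟩ := pts_surjective w C (y ≫ b)
  rw [MonObj.comp_mul, MonObj.comp_mul, hχ, hχ', ← pts_mul, ← pts_mul, mul_comm]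

/-- Homomorphisms to a commutative group agreeing modulo a nilpotent ideal are equal. -/
theorem hom_ext_nilp
    (hH : TwC.Locally (Spec (CommRingCat.of R)) TwC.Topology.fpqc (fun S' f => ∃ (M : Type) (_ : AddCommGroup M),
      Nonempty (Grp.mk (Red.bc f H) ≅ Grp.mk (Red.DS S' M))))
    (hG : Comm G) {e f : H ⟶ G} [IsMonHom e] [IsMonHom f] {J : Ideal R} (hJ : IsNilpotent J)
    (h : ∀ (D : Type u) [CommRing D] [Algebra R D], J ≤ RingHom.ker (algebraMap R D) →
      ∀ y : sp R D ⟶ H, y ≫ e = y ≫ f) : e = f := by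
  obtain ⟨Z, π, _, _, P, jz, -, hP⟩ := exists_pieces hH hH
  choose hι hmem hιπ using hP
  let 𝒰 : Z.OpenCover := Scheme.Cover.mkOfCovers Z (fun z : Z => Spec (CommRingCat.of (P z).B)) jz
    (fun z => let ⟨t, ht⟩ := hmem z; ⟨z, t, ht⟩) fun z => hι z
  have hbc : ∀ z, (Over.pullback (P z).p).map e = (Over.pullback (P z).p).map f := by
    intro z
    obtain ⟨w, hw⟩ := MultLift.exists_split_iso (P z).e (P z).j (P z).p (P z).hj
    haveI := hw
    haveI : IsMonHom (M := Red.bc (P z).p H) (N := Red.bc (P z).p G) ((Over.pullback (P z).p).map e) :=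
      isMonHom_bc_map _ e
    haveI : IsMonHom (M := Red.bc (P z).p H) (N := Red.bc (P z).p G) ((Over.pullback (P z).p).map f) :=
      isMonHom_bc_map _ f
    obtain ⟨φr, hφr⟩ := Spec.map_surjective (P z).p
    refine unique_split (H := Red.bc (P z).p H) (G := Red.bc (P z).p G) w (comm_bc hG _)
      (isNilpotent_map φr.hom hJ) fun D _ _ hD y => ?_
    letI : Algebra R D := ((algebraMap (P z).B D).comp φr.hom).toAlgebra
    have hD' : J ≤ RingHom.ker (algebraMap R D) := fun r hr => hD (Ideal.mem_map_of_mem φr.hom hr)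
    let y' : sp R D ⟶ H := Over.homMk (y.left ≫ pullback.fst H.hom (P z).p) (by
      rw [Category.assoc, pullback.condition]
      show y.left ≫ (Red.bc (P z).p H).hom ≫ (P z).p = Spec.map (CommRingCat.ofHom _)
      rw [← Category.assoc, Over.w y, ← hφr]
      exact (Spec.map_comp φr (CommRingCat.ofHom (algebraMap (P z).B D))).symm.trans rfl)
    refine Over.OverMorphism.ext (pullback.hom_ext ?_ ?_)
    · simp only [Over.comp_left, Category.assoc, ActBC.pullback_map_left_fst]
      have h' := congrArg CommaMorphism.left (h D hD' y')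
      simp only [Over.comp_left, y', Over.homMk_left, Category.assoc] at h'
      exact h'
    · exact (Over.w (y ≫ (Over.pullback (P z).p).map e)).trans (Over.w (y ≫ (Over.pullback (P z).p).map f)).symm
  haveI : Epi (pullback.fst H.hom π) := Flat.epi_of_flat_of_surjective _
  refine Over.OverMorphism.ext ((cancel_epi (pullback.fst H.hom π)).1 ?_)
  refine Scheme.Cover.hom_ext (Scheme.Pullback.openCoverOfRight 𝒰 H.hom π) _ _ fun z => ?_
  simp only [Scheme.Pullback.openCoverOfRight_f, pullback.map, pullback.lift_fst_assoc, Category.assoc,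
    Category.comp_id]
  let a : pullback H.hom (jz z ≫ π) ⟶ pullback H.hom (P z).p :=
    pullback.lift (pullback.fst _ _) (pullback.snd _ _) (by rw [pullback.condition, hιπ z])
  have h' := congrArg (fun m => a ≫ m.left ≫ pullback.fst G.hom (P z).p) (hbc z)
  simp only [ActBC.pullback_map_left_fst, a, pullback.lift_fst_assoc] at h'
  exact h'

/-- The identification modulo a nilpotent ideal lifts to a homomorphism. -/
theorem exists_hom_modEq
    (hH : TwC.Locally (Spec (CommRingCat.of R)) TwC.Topology.fpqc (fun S' f => ∃ (M : Type) (_ : AddCommGroup M),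
      Nonempty (Grp.mk (Red.bc f H) ≅ Grp.mk (Red.DS S' M))))
    (hH' : TwC.Locally (Spec (CommRingCat.of R)) TwC.Topology.fpqc (fun S' f => ∃ (M : Type) (_ : AddCommGroup M),
      Nonempty (Grp.mk (Red.bc f H') ≅ Grp.mk (Red.DS S' M))))
    (i : H ⟶ G) [IsMonHom i] (i' : H' ⟶ G) [IsMonHom i'] [Mono i'.left] {J : Ideal R} (hJ : IsNilpotent J)
    (h0 : MultLift.LeMod i i' J) :
    ∃ φ : H ⟶ H', IsMonHom φ ∧ ∀ (D : Type u) [CommRing D] [Algebra R D], J ≤ RingHom.ker (algebraMap R D) →
      ∀ y : sp R D ⟶ H, y ≫ φ ≫ i' = y ≫ i := by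
  haveI : Mono ((Over.forget _).map i') := inferInstanceAs (Mono i'.left)
  haveI : Mono i' := Functor.mono_of_mono_map (Over.forget _) ‹_›
  have hcomm := comm_of_locally hH'
  obtain ⟨Z, π, _, _, P, jz, hcov, hP⟩ := exists_pieces hH hH'
  choose hι hmem hιπ using hP
  let 𝒰 : Z.OpenCover := Scheme.Cover.mkOfCovers Z (fun z : Z => Spec (CommRingCat.of (P z).B)) jz
    (fun z => let ⟨t, ht⟩ := hmem z; ⟨z, t, ht⟩) fun z => hι z
  have hloc : ∀ z, ∃ φ : Red.bc (P z).p H ⟶ Red.bc (P z).p H', IsMonHom φ ∧ ModEq J i i' (P z).p φ := by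
    intro z
    obtain ⟨w, hw⟩ := MultLift.exists_split_iso (P z).e (P z).j (P z).p (P z).hj
    obtain ⟨w', hw'⟩ := MultLift.exists_split_iso (P z).e' (P z).j' (P z).p (P z).hj'
    haveI := hw
    haveI := hw'
    exact exists_modEq i i' hJ h0 (P z).p w w'
  choose φz hφz hmod using hloc
  let F : ∀ z, pullback H.hom (P z).p ⟶ H'.left := fun z => (φz z).left ≫ pullback.fst H'.hom (P z).p
  -- the local lifts agree
  have hagree : ∀ (Q : Scheme.{u}) (x y : Z) (a : Q ⟶ pullback H.hom (P x).p) (b : Q ⟶ pullback H.hom (P y).p),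
      a ≫ pullback.fst _ _ = b ≫ pullback.fst _ _ → a ≫ F x = b ≫ F y := by
    intro Q x y a b hab
    refine Scheme.Cover.hom_ext Q.affineCover _ _ fun k => ?_
    haveI : IsAffine (Q.affineCover.X k) := inferInstance
    refine (cancel_epi (Q.affineCover.X k).isoSpec.inv).1 ?_
    let C : Type u := Γ(Q.affineCover.X k, ⊤)
    let c : Spec (CommRingCat.of C) ⟶ Q := (Q.affineCover.X k).isoSpec.inv ≫ Q.affineCover.f k
    let qa := (c ≫ a) ≫ pullback.snd _ _
    let qb := (c ≫ b) ≫ pullback.snd _ _
    have hp : qb ≫ (P y).p = qa ≫ (P x).p := by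
      simp only [qa, qb, Category.assoc]
      rw [← pullback.condition, ← pullback.condition, ← Category.assoc a, hab]
      simp only [c, Category.assoc]
    obtain ⟨w, hw⟩ := exists_split_of (H := H) (P x).e (P x).j (P x).hj qa
    haveI := hw
    haveI := hφz x
    haveI := hφz y
    haveI : IsMonHom (DescHom.wmap (P x).p (φz x) qa (qa ≫ (P x).p) rfl) := DescHom.isMonHom_wmap _ _ _ _ _
    haveI : IsMonHom (DescHom.wmap (P y).p (φz y) qb (qa ≫ (P x).p) hp) := DescHom.isMonHom_wmap _ _ _ _ _
    have heq := ModEq.unique hcomm hJ (qa ≫ (P x).p) w ((hmod x).wmap qa _ rfl) ((hmod y).wmap qb _ hp)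
    let l : Spec (CommRingCat.of C) ⟶ pullback H.hom (qa ≫ (P x).p) :=
      pullback.lift ((c ≫ a) ≫ pullback.fst _ _) (𝟙 _) (by
        rw [Category.id_comp, Category.assoc, pullback.condition]
        simp only [qa, Category.assoc])
    have h := congrArg (fun m => l ≫ m.left ≫ pullback.fst H'.hom (qa ≫ (P x).p)) heq
    simp only [DescHom.wmap_fst] at h
    rw [← Category.assoc l, ← Category.assoc l] at h
    have e₁ : l ≫ pullback.lift (pullback.fst H.hom (qa ≫ (P x).p)) (pullback.snd H.hom _ ≫ qa)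
        (by rw [Category.assoc]; exact pullback.condition) = c ≫ a := by
      refine pullback.hom_ext ?_ ?_ <;> simp [l, qa]
      all_goals exact Category.id_comp _
    have e₂ : l ≫ pullback.lift (pullback.fst H.hom (qa ≫ (P x).p)) (pullback.snd H.hom _ ≫ qb)
        ((pullback.condition.trans (congrArg (_ ≫ ·) hp.symm)).trans (Category.assoc _ _ _).symm) = c ≫ b := by
      refine pullback.hom_ext ?_ ?_
      · simp only [l, Category.assoc, pullback.lift_fst]
        rw [hab]
      · simp [l, qb]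
        all_goals exact Category.id_comp _
    rw [e₁, e₂] at h
    simpa only [c, F, Category.assoc] using h
  let cv := Scheme.Pullback.openCoverOfRight 𝒰 H.hom π
  let a : ∀ z, pullback H.hom (jz z ≫ π) ⟶ pullback H.hom (P z).p := fun z =>
    pullback.lift (pullback.fst _ _) (pullback.snd _ _) (by rw [pullback.condition, hιπ z])
  have hcvfst : ∀ z, cv.f z ≫ pullback.fst H.hom π = a z ≫ pullback.fst _ _ := fun z => by
    simp only [cv, Scheme.Pullback.openCoverOfRight_f, pullback.map, pullback.lift_fst, a, Category.comp_id]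
    rfl
  let g' : pullback H.hom π ⟶ H'.left := Scheme.Cover.glueMorphisms cv (fun z => a z ≫ F z) fun x y => by
    refine ((Category.assoc _ _ _).symm.trans (hagree _ x y _ _ ?_)).trans (Category.assoc _ _ _)
    rw [Category.assoc, Category.assoc, ← hcvfst, ← hcvfst, ← Category.assoc, pullback.condition, Category.assoc]
  have hg' : ∀ z, cv.f z ≫ g' = a z ≫ F z := fun z => Scheme.Cover.ι_glueMorphisms cv _ _ z
  let e : pullback H.hom π ⟶ H.left := pullback.fst _ _
  haveI : EffectiveEpi e := DescHom.effectiveEpi_pullback_fst π hcov H.hom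
  have hsym : pullback.fst e e ≫ g' = pullback.snd e e ≫ g' :=
    Scheme.Cover.hom_ext (Scheme.Pullback.openCoverOfLeftRight cv cv e e) _ _ fun k => by
      obtain ⟨x, y⟩ := k
      simp only [Scheme.Pullback.openCoverOfLeftRight_f, pullback.map, pullback.lift_fst_assoc,
        pullback.lift_snd_assoc, Category.assoc]
      rw [hg' x, hg' y]
      refine ((Category.assoc _ _ _).symm.trans (hagree _ x y _ _ ?_)).trans (Category.assoc _ _ _)
      rw [Category.assoc, Category.assoc, ← hcvfst, ← hcvfst]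
      exact (Category.assoc _ _ _).trans ((pullback.condition (f := cv.f x ≫ e) (g := cv.f y ≫ e)).trans (Category.assoc _ _ _).symm)
  let gl : H.left ⟶ H'.left := EffectiveEpi.desc e g' fun g₁ g₂ h => by
    rw [← pullback.lift_fst_assoc g₁ g₂ h g', hsym, pullback.lift_snd_assoc]
  have hgl : e ≫ gl = g' := EffectiveEpi.fac e g' _
  let φ : H ⟶ H' := Over.homMk gl (by
    rw [← cancel_epi e, ← Category.assoc, hgl]
    refine Scheme.Cover.hom_ext cv _ _ fun z => ?_
    rw [← Category.assoc, hg', ← Category.assoc (cv.f z), hcvfst, Category.assoc, Category.assoc]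
    refine Eq.trans (congrArg (a z ≫ ·) ?_) (Category.assoc _ _ _).symm
    rw [pullback.condition, pullback.condition, ← Category.assoc]
    exact Over.w (φz z) =≫ (P z).p)
  -- the local descriptions
  have hbc : ∀ z, (Over.pullback (P z).p).map φ = φz z := by
    intro z
    refine Over.OverMorphism.ext (pullback.hom_ext ?_ ?_)
    · rw [ActBC.pullback_map_left_fst]
      let b : pullback H.hom (P z).p ⟶ pullback H.hom (jz z ≫ π) :=
        pullback.lift (pullback.fst _ _) (pullback.snd _ _) (by rw [pullback.condition, hιπ z])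
      have hb : b ≫ a z = 𝟙 _ := by refine pullback.hom_ext ?_ ?_ <;> simp [a, b]
      show pullback.fst H.hom (P z).p ≫ gl = F z
      rw [show pullback.fst H.hom (P z).p = b ≫ cv.f z ≫ e by
          rw [show cv.f z ≫ e = a z ≫ pullback.fst _ _ from hcvfst z, ← Category.assoc, hb, Category.id_comp],
        Category.assoc, Category.assoc, hgl, hg', ← Category.assoc, hb, Category.id_comp]
    · exact (Over.w ((Over.pullback (P z).p).map φ)).trans (Over.w (φz z)).symm
  have halg : ∀ z, ∃ r : CommRingCat.of R ⟶ CommRingCat.of (P z).B, Spec.map r = (P z).p :=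
    fun z => Spec.map_surjective _
  choose r hr using halg
  letI : ∀ z, Algebra R (P z).B := fun z => (r z).hom.toAlgebra
  have hsp : ∀ z, (P z).p = (sp R (P z).B).hom := fun z => by
    show _ = Spec.map (CommRingCat.ofHom (r z).hom)
    rw [CommRingCat.ofHom_hom, hr z]
  -- points with values in algebras over the pieces
  have hpts : ∀ (z : Z) (C : Type u) [CommRing C] [Algebra R C] (_ : (P z).B →ₐ[R] C),
      ∃ (X : Over (Spec (CommRingCat.of (P z).B))) (ε : (Over.map (P z).p).obj X ⟶ sp R C), IsIso ε ∧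
        ∀ y : sp R C ⟶ H, (Over.mapPullbackAdj (P z).p).homEquiv X H' ((ε ≫ y) ≫ φ) =
          (Over.mapPullbackAdj (P z).p).homEquiv X H (ε ≫ y) ≫ φz z := by
    intro z C _ _ β
    let X : Over (Spec (CommRingCat.of (P z).B)) := Over.mk (Spec.map (CommRingCat.ofHom β.toRingHom))
    let ε : (Over.map (P z).p).obj X ⟶ sp R C := Over.homMk (𝟙 _) (by
      show 𝟙 _ ≫ Spec.map (CommRingCat.ofHom (algebraMap R C)) =
        Spec.map (CommRingCat.ofHom β.toRingHom) ≫ (P z).p
      rw [hsp z, Category.id_comp]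
      show _ = _ ≫ Spec.map _
      rw [← Spec.map_comp, ← CommRingCat.ofHom_comp, ← β.comp_algebraMap]
      rfl)
    haveI : IsIso ((Over.forget _).map ε) := inferInstanceAs (IsIso (𝟙 _))
    refine ⟨X, ε, isIso_of_reflects_iso _ (Over.forget _), fun y => ?_⟩
    rw [Adjunction.homEquiv_naturality_right, hbc z]
  refine ⟨φ, ?_, fun D _ _ hD y => ?_⟩
  · have hmul : μ[H] ≫ φ = (φ ⊗ₘ φ) ≫ μ[H'] := by
      rw [MonObj.mul_eq_mul, MonObj.mul_eq_mul, MonObj.comp_mul, tensorHom_fst, tensorHom_snd]
      refine eq_of_cover π 𝒰 (fun z => (P z).B) (fun z => 𝟙 _) (fun z => (hιπ z).trans ((hsp z).trans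
        (Category.id_comp _).symm)) _ _ fun z C _ _ β y => ?_
      obtain ⟨X, ε, hε, he⟩ := hpts z C β
      haveI := hε
      haveI := hφz z
      have key : ∀ y₁ y₂ : sp R C ⟶ H, (y₁ * y₂) ≫ φ = (y₁ ≫ φ) * (y₂ ≫ φ) := by
        intro y₁ y₂
        rw [← cancel_epi ε, MonObj.comp_mul, ← Category.assoc, ← Category.assoc, ← Category.assoc]
        refine ((Over.mapPullbackAdj _).homEquiv X H').injective ?_
        rw [he, AlgGrp.Action.homEquiv_mul, he, he, MonObj.comp_mul, AlgGrp.Action.homEquiv_mul, MonObj.mul_comp]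
      rw [← Category.assoc, MonObj.comp_mul, MonObj.comp_mul, ← Category.assoc, ← Category.assoc]
      exact key _ _
    refine { one_hom := ?_, mul_hom := hmul }
    have h1 : ∀ {Y : Over (Spec (CommRingCat.of R))} (a b : Y ⟶ H), (a * b) ≫ φ = (a ≫ φ) * (b ≫ φ) := by
      intro Y a b
      rw [Hom.mul_def, Category.assoc, hmul, ← Category.assoc, lift_map, ← Hom.mul_def]
    have h2 := h1 (1 : 𝟙_ (Over (Spec (CommRingCat.of R))) ⟶ H) 1
    rw [mul_one] at h2
    rw [MonObj.one_eq_one, MonObj.one_eq_one]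
    exact (mul_eq_left.1 h2.symm)
  · refine Over.OverMorphism.ext ?_
    haveI : Epi (pullback.fst y.left e) := Flat.epi_of_flat_of_surjective _
    rw [← cancel_epi (pullback.fst y.left e)]
    refine Scheme.Cover.hom_ext (Scheme.Pullback.openCoverOfRight cv y.left e) _ _ fun z => ?_
    simp only [Scheme.Pullback.openCoverOfRight_f, pullback.map, pullback.lift_fst_assoc, Category.assoc,
      Category.comp_id, Over.comp_left]
    let Q := pullback y.left (cv.f z ≫ e)
    refine Scheme.Cover.hom_ext Q.affineCover _ _ fun k => ?_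
    haveI : IsAffine (Q.affineCover.X k) := inferInstance
    refine (cancel_epi (Q.affineCover.X k).isoSpec.inv).1 ?_
    let D' : Type u := Γ(Q.affineCover.X k, ⊤)
    let c : Spec (CommRingCat.of D') ⟶ Q := (Q.affineCover.X k).isoSpec.inv ≫ Q.affineCover.f k
    obtain ⟨ψ, hψ⟩ := Spec.map_surjective (c ≫ pullback.fst _ _)
    letI : Algebra R D' := (ψ.hom.comp (algebraMap R D)).toAlgebra
    have hD' : J ≤ RingHom.ker (algebraMap R D') := fun r hr => by
      show ψ.hom (algebraMap R D r) = 0
      rw [show algebraMap R D r = 0 from hD hr, map_zero]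
    let l := c ≫ pullback.snd _ _ ≫ a z
    have hl0 : l ≫ pullback.fst H.hom (P z).p = (c ≫ pullback.fst _ _) ≫ y.left := by
      simp only [l, Category.assoc]
      rw [← hcvfst z, pullback.condition]
    have hl : l ≫ pullback.fst H.hom (P z).p ≫ H.hom = (sp R D').hom := by
      rw [← Category.assoc, hl0, Category.assoc, Over.w y, ← hψ]
      exact (Spec.map_comp (CommRingCat.ofHom (algebraMap R D)) ψ).symm.trans rfl
    have h := hmod z D' hD' l hl
    rw [← Category.assoc l (pullback.fst H.hom (P z).p), hl0] at h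
    have e1 : (c ≫ pullback.fst _ _) ≫ y.left ≫ gl = l ≫ F z := by
      have e2 : (cv.f z ≫ e) ≫ gl = a z ≫ F z :=
        (Category.assoc _ _ _).trans ((congrArg (cv.f z ≫ ·) hgl).trans (hg' z))
      rw [Category.assoc, pullback.condition_assoc]
      refine (congrArg (fun m => c ≫ pullback.snd y.left (cv.f z ≫ e) ≫ m) e2).trans ?_
      simp only [l, Category.assoc]
    have h' : ((c ≫ pullback.fst _ _) ≫ y.left ≫ gl) ≫ i'.left = (c ≫ pullback.fst _ _) ≫ y.left ≫ i.left := by
      rw [e1]
      simp only [F, Category.assoc] at h ⊢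
      exact h
    simp only [c, Category.assoc] at h'
    exact h'

/-- Subgroups of multiplicative type which are equal modulo a nilpotent ideal are isomorphic compatibly. -/
theorem exists_iso_modEq
    (hH : TwC.Locally (Spec (CommRingCat.of R)) TwC.Topology.fpqc (fun S' f => ∃ (M : Type) (_ : AddCommGroup M),
      Nonempty (Grp.mk (Red.bc f H) ≅ Grp.mk (Red.DS S' M))))
    (hH' : TwC.Locally (Spec (CommRingCat.of R)) TwC.Topology.fpqc (fun S' f => ∃ (M : Type) (_ : AddCommGroup M),
      Nonempty (Grp.mk (Red.bc f H') ≅ Grp.mk (Red.DS S' M))))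
    (i : H ⟶ G) [IsMonHom i] [Mono i.left] (i' : H' ⟶ G) [IsMonHom i'] [Mono i'.left] {J : Ideal R}
    (hJ : IsNilpotent J) (h0 : MultLift.LeMod i i' J) (h0' : MultLift.LeMod i' i J) :
    ∃ φ : H ≅ H', IsMonHom φ.hom ∧ ∀ (D : Type u) [CommRing D] [Algebra R D], J ≤ RingHom.ker (algebraMap R D) →
      ∀ y : sp R D ⟶ H, y ≫ φ.hom ≫ i' = y ≫ i := by
  haveI : Mono i := Over.mono_of_mono_left _
  haveI : Mono i' := Over.mono_of_mono_left _
  obtain ⟨φ, hφ, hmod⟩ := exists_hom_modEq hH hH' i i' hJ h0
  obtain ⟨φ', hφ', hmod'⟩ := exists_hom_modEq hH' hH i' i hJ h0'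
  haveI := hφ
  haveI := hφ'
  have h1 : φ ≫ φ' = 𝟙 H := hom_ext_nilp hH (comm_of_locally hH) hJ fun D _ _ hD y => by
    rw [← cancel_mono i, ← Category.assoc y φ, Category.assoc (y ≫ φ), hmod' D hD, Category.assoc,
      hmod D hD, Category.comp_id]
  have h2 : φ' ≫ φ = 𝟙 H' := hom_ext_nilp hH' (comm_of_locally hH') hJ fun D _ _ hD y => by
    rw [← cancel_mono i', ← Category.assoc y φ', Category.assoc (y ≫ φ'), hmod D hD, Category.assoc,
      hmod' D hD, Category.comp_id]
  exact ⟨⟨φ, φ', h1, h2⟩, hφ, hmod⟩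

end Groth.Agent.ConjAvg
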