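import Groth.Agent.ConjAvgLib.Push

/-!
Averaging the difference of two homomorphisms from a diagonalisable group.
-/

set_option autoImplicit false
set_option backward.isDefEq.respectTransparency false

noncomputable section

universe u

open CategoryTheory CategoryTheory.Limits MonoidalCategory CartesianMonoidalCategory AlgebraicGeometry CoactBr
open scoped MonObj TensorProduct

namespace Groth.Agent.ConjAvg

attribute [local instance] CoactBr.braidedAlgSpecOf

variable {R : Type u} [CommRing R] {G : Over (Spec (CommRingCat.of R))} [GrpObj G]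

/-- A natural family of homomorphisms from characters with values in algebras over `B` to points. -/
structure Fam (G : Over (Spec (CommRingCat.of R))) [GrpObj G] (B : Type u) [CommRing B] [Algebra R B] (M : Type)
    [AddCommGroup M] where
  /-- the homomorphisms -/
  ev : ∀ (C : Type u) [CommRing C] [Algebra R C] [Algebra B C] [IsScalarTower R B C],
    (Multiplicative M →* C) → (sp R C ⟶ G)
  ev_mul : ∀ (C : Type u) [CommRing C] [Algebra R C] [Algebra B C] [IsScalarTower R B C]
    (χ χ' : Multiplicative M →* C), ev C (χ * χ') = ev C χ * ev C χ'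
  ev_comp : ∀ {C D : Type u} [CommRing C] [Algebra R C] [Algebra B C] [IsScalarTower R B C] [CommRing D] [Algebra R D]
    [Algebra B D] [IsScalarTower R B D] (L : C →ₐ[B] D) (χ : Multiplicative M →* C),
    pt (L.restrictScalars R) ≫ ev C χ = ev D (L.toRingHom.toMonoidHom.comp χ)

variable {B : Type u} [CommRing B] [Algebra R B] {M : Type} [AddCommGroup M]

/-- The Haar functional of a group algebra. -/
def int (C : Type u) [CommRing C] (M : Type) [AddCommGroup M] : MonoidAlgebra C (Multiplicative M) →ₗ[C] C :=
  (MonoidAlgebra.basis (Multiplicative M) C).coord 1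

theorem int_single [DecidableEq (Multiplicative M)] (C : Type u) [CommRing C] (m : Multiplicative M) (c : C) :
    int C M (MonoidAlgebra.single m c) = if m = 1 then c else 0 := by
  rw [show (MonoidAlgebra.single m c : MonoidAlgebra C (Multiplicative M)) = c • MonoidAlgebra.single m 1 by simp,
    map_smul, int, Module.Basis.coord_apply, ← MonoidAlgebra.basis_apply, Module.Basis.repr_self,
    Finsupp.single_apply]
  simp

theorem int_one (C : Type u) [CommRing C] : int C M 1 = 1 := by
  classical
  rw [MonoidAlgebra.one_def, int_single, if_pos rfl]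

namespace Fam

variable (u v : Fam G B M)

/-- The difference of two families. -/
def diff (C : Type u) [CommRing C] [Algebra R C] [Algebra B C] [IsScalarTower R B C] (χ : Multiplicative M →* C) :
    sp R C ⟶ G :=
  v.ev C χ * (u.ev C χ)⁻¹

theorem diff_comp {C D : Type u} [CommRing C] [Algebra R C] [Algebra B C] [IsScalarTower R B C] [CommRing D]
    [Algebra R D] [Algebra B D] [IsScalarTower R B D] (L : C →ₐ[B] D) (χ : Multiplicative M →* C) :
    pt (L.restrictScalars R) ≫ diff u v C χ = diff u v D (L.toRingHom.toMonoidHom.comp χ) := by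
  rw [diff, MonObj.comp_mul, GrpObj.comp_inv, v.ev_comp, u.ev_comp, diff]

theorem diff_mul (C : Type u) [CommRing C] [Algebra R C] [Algebra B C] [IsScalarTower R B C]
    (χ χ' : Multiplicative M →* C) :
    diff u v C (χ * χ') = diff u v C χ * (u.ev C χ * diff u v C χ' * (u.ev C χ)⁻¹) := by
  simp only [diff, v.ev_mul, u.ev_mul, mul_inv_rev, mul_assoc, inv_mul_cancel_left]

variable (J : Ideal R) (hJ : J ^ 2 = ⊥)

/-- The families agree modulo the ideal. -/
def EqMod : Prop :=
  ∀ (C : Type u) [CommRing C] [Algebra R C] [Algebra B C] [IsScalarTower R B C],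
    J ≤ RingHom.ker (algebraMap R C) → ∀ χ : Multiplicative M →* C, u.ev C χ = v.ev C χ

/-- The averaged difference. -/
def IsAvg (z : sp R B ⟶ G) : Prop :=
  IsPush (B := B) J hJ (int B M) (int_one B) (diff u v (MonoidAlgebra B (Multiplicative M)) (MonoidAlgebra.of B _)) z

variable {u v J hJ}

theorem diff_congr_one (h : EqMod u v J) (C : Type u) [CommRing C] [Algebra R C] [Algebra B C] [IsScalarTower R B C]
    (χ : Multiplicative M →* C) :
    pt (Ideal.Quotient.mkₐ R (J.map (algebraMap R C))) ≫ diff u v C χ = 1 := by
  let K := J.map (algebraMap R C)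
  have e : Ideal.Quotient.mkₐ R K = (Ideal.Quotient.mkₐ B K).restrictScalars R := rfl
  rw [e, diff_comp, diff, mul_inv_eq_one, eq_comm]
  refine h (C ⧸ K) (fun r hr => ?_) _
  rw [RingHom.mem_ker, IsScalarTower.algebraMap_apply R C (C ⧸ K)]
  exact Ideal.Quotient.eq_zero_iff_mem.2 (Ideal.mem_map_of_mem _ hr)

theorem exists_isAvg (V : LChart G B) (h : EqMod u v J) : ∃ z, IsAvg u v J hJ z :=
  exists_isPush V _ (diff_congr_one h _ _)

theorem IsAvg.unique (V : LChart G B) {z z' : sp R B ⟶ G} (h : IsAvg u v J hJ z) (h' : IsAvg u v J hJ z') : z = z' :=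
  IsPush.unique V h h'

theorem IsAvg.congr_one {z : sp R B ⟶ G} (h : IsAvg u v J hJ z) :
    pt (Ideal.Quotient.mkₐ R (J.map (algebraMap R B))) ≫ z = 1 :=
  IsPush.congr_one (B'' := B) h

/-- The averaged difference over an algebra. -/
theorem IsAvg.push {z : sp R B ⟶ G} (h : IsAvg u v J hJ z) (C : Type u) [CommRing C] [Algebra R C] [Algebra B C]
    [IsScalarTower R B C] :
    IsPush (B := C) J hJ (int C M) (int_one C) (diff u v (MonoidAlgebra C (Multiplicative M)) (MonoidAlgebra.of C _))
      (pt (IsScalarTower.toAlgHom R B C) ≫ z) := by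
  classical
  let L : MonoidAlgebra B (Multiplicative M) →ₐ[B] MonoidAlgebra C (Multiplicative M) :=
    MonoidAlgebra.lift B _ (Multiplicative M) (MonoidAlgebra.of C _)
  have hL : ∀ m, L (MonoidAlgebra.single m 1) = MonoidAlgebra.single m 1 := fun m => by simp [L]
  have hlin : ∀ a, algebraMap B C (int B M a) = int C M (L a) := fun a =>
    DFunLike.congr_fun (f := (Algebra.linearMap B C).comp (int B M))
      (g := ((int C M).restrictScalars B).comp L.toLinearMap)
      ((MonoidAlgebra.basis (Multiplicative M) B).ext fun m => by
        simp only [LinearMap.comp_apply, MonoidAlgebra.basis_apply, int_single, LinearMap.restrictScalars_apply,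
          AlgHom.toLinearMap_apply, hL, Algebra.linearMap_apply, apply_ite, map_one, map_zero]
        split_ifs <;> simp) a
  have h2 := IsPush.natural (B := B) h (IsScalarTower.toAlgHom R B C) (L.restrictScalars R)
    (IsScalarTower.toAlgHom R B C) (fun b => by
      show L (algebraMap B _ b) = algebraMap C _ (algebraMap B C b)
      rw [L.commutes, ← IsScalarTower.algebraMap_apply]) (int C M) (int_one C) hlin
  rw [diff_comp] at h2
  convert h2 using 3
  exact MonoidHom.ext fun m => (hL m).symm

/-- Conjugation by the averaged difference carries the first family to the second. -/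
theorem IsAvg.conj_eq (V : LChart G B) (hmod : EqMod u v J) {z : sp R B ⟶ G} (h : IsAvg u v J hJ z) (C : Type u)
    [CommRing C] [Algebra R C] [Algebra B C] [IsScalarTower R B C] (χ : Multiplicative M →* C) :
    v.ev C χ = (pt (IsScalarTower.toAlgHom R B C) ≫ z) * u.ev C χ * (pt (IsScalarTower.toAlgHom R B C) ≫ z)⁻¹ := by
  classical
  let W := V.map (IsScalarTower.toAlgHom R B C)
  let g := pt (IsScalarTower.toAlgHom R B C) ≫ z
  let A := MonoidAlgebra C (Multiplicative M)
  let ω : Multiplicative M →* A := MonoidAlgebra.of C _
  let cst : C →ₐ[B] A := IsScalarTower.toAlgHom B C A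
  let χ' : Multiplicative M →* A := cst.toRingHom.toMonoidHom.comp χ
  let τ : A →ₐ[C] A := MonoidAlgebra.lift C A (Multiplicative M) (χ' * ω)
  have hg : IsPush (B := C) J hJ (int C M) (int_one C) (diff u v A ω) g := h.push C
  have hτ : ∀ a, int C M (τ a) = int C M a := fun a =>
    DFunLike.congr_fun (f := (int C M).comp τ.toLinearMap) (g := int C M)
      ((MonoidAlgebra.basis (Multiplicative M) C).ext fun m => by
        have e : τ (MonoidAlgebra.single m 1) = MonoidAlgebra.single m (χ m) := by
          show MonoidAlgebra.lift C A (Multiplicative M) (χ' * ω) (MonoidAlgebra.single m 1) = _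
          rw [MonoidAlgebra.lift_single, one_smul]
          show algebraMap C A (χ m) * MonoidAlgebra.single m 1 = _
          rw [← Algebra.smul_def, MonoidAlgebra.smul_single, smul_eq_mul, mul_one]
        rw [MonoidAlgebra.basis_apply]
        show int C M (τ (MonoidAlgebra.single m 1)) = int C M (MonoidAlgebra.single m 1)
        rw [e, int_single, int_single]
        split_ifs with hm
        · rw [hm, map_one]
        · rfl) a
  have e₁ : pt (τ.restrictScalars R) ≫ diff u v A ω = diff u v A (χ' * ω) := by
    have h3 := diff_comp u v (τ.restrictScalars B) ω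
    refine Eq.trans h3 (congrArg _ (MonoidHom.ext fun m => ?_))
    show MonoidAlgebra.lift C A (Multiplicative M) (χ' * ω) (MonoidAlgebra.single m 1) = (χ' * ω) m
    exact (MonoidAlgebra.lift_single _ _ _).trans (one_smul _ _)
  -- the translated difference has the same average
  have h1 : IsPush (B := C) J hJ (int C M) (int_one C) (diff u v A (χ' * ω)) g := by
    have := IsPush.natural (B := C) hg (AlgHom.id R C) (τ.restrictScalars R) (AlgHom.id R C)
      (fun b => τ.commutes b) (int C M) (int_one C) (fun a => (hτ a).symm)
    rwa [e₁, pt_id', Category.id_comp] at this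
  -- the constant part is its own average
  have h2 : IsPush (B := C) J hJ (int C M) (int_one C) (diff u v A χ') (diff u v C χ) := by
    have := IsPush.natural (B := C) (isPush_id (B := C) hJ W (diff u v C χ) (diff_congr_one hmod C χ)) (AlgHom.id R C)
      (cst.restrictScalars R) (AlgHom.id R C) (fun b => rfl) (int C M) (int_one C) (fun a => by
        show a = int C M (algebraMap C A a)
        rw [Algebra.algebraMap_eq_smul_one, map_smul, int_one, smul_eq_mul, mul_one])
    rwa [diff_comp, pt_id', Category.id_comp] at this
  have hc : u.ev A χ' = pt (IsScalarTower.toAlgHom R C A) ≫ u.ev C χ := (u.ev_comp cst χ).symm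
  have h3 := h2.mul (hg.conj (u.ev C χ))
  rw [← hc, show pt (IsScalarTower.toAlgHom R C C) ≫ u.ev C χ = u.ev C χ by
    rw [show IsScalarTower.toAlgHom R C C = AlgHom.id R C from rfl, pt_id', Category.id_comp], ← diff_mul] at h3
  have key : g = diff u v C χ * (u.ev C χ * g * (u.ev C χ)⁻¹) := IsPush.unique W h1 h3
  show v.ev C χ = g * u.ev C χ * g⁻¹
  have h4 : g * u.ev C χ * g⁻¹ = diff u v C χ * u.ev C χ := by
    conv_lhs => arg 1; rw [key]
    simp only [mul_assoc, mul_inv_rev, inv_mul_cancel_left, mul_inv_cancel, mul_one]
  rw [h4, diff, inv_mul_cancel_right]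

/-- An injective homomorphism of group algebras respecting products of characters respects the Haar functionals. -/
theorem int_comp_eq {M' : Type} [AddCommGroup M'] (L : MonoidAlgebra B (Multiplicative M) →ₐ[B] MonoidAlgebra B (Multiplicative M'))
    (hinj : Function.Injective L)
    (hmul : ∀ (D : Type u) [CommRing D] [Algebra B D] (ψ ψ' : Multiplicative M' →* D) (m : Multiplicative M),
      MonoidAlgebra.lift B D (Multiplicative M') (ψ * ψ') (L (MonoidAlgebra.single m 1)) =
        MonoidAlgebra.lift B D (Multiplicative M') ψ (L (MonoidAlgebra.single m 1)) *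
          MonoidAlgebra.lift B D (Multiplicative M') ψ' (L (MonoidAlgebra.single m 1)))
    (a : MonoidAlgebra B (Multiplicative M)) : int B M' (L a) = int B M a := by
  classical
  refine DFunLike.congr_fun (f := (int B M').comp L.toLinearMap) (g := int B M)
    ((MonoidAlgebra.basis (Multiplicative M) B).ext fun m => ?_) a
  simp only [LinearMap.comp_apply, MonoidAlgebra.basis_apply, AlgHom.toLinearMap_apply, int_single]
  by_cases hm : m = 1
  · subst hm
    rw [← MonoidAlgebra.one_def, map_one, int_one, if_pos rfl]
  rw [if_neg hm]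
  let D := MonoidAlgebra B (Multiplicative M')
  let x := L (MonoidAlgebra.single m 1)
  let c := int B M' x
  -- `x * c = c`
  have hx : c • x = c • (1 : D) := by
    let D₂ := MonoidAlgebra B (Multiplicative M' × Multiplicative M')
    have h := hmul D₂ ((MonoidAlgebra.of B _).comp (MonoidHom.inl _ _)) ((MonoidAlgebra.of B _).comp (MonoidHom.inr _ _)) m
    let π₂ : D₂ →ₗ[B] D := (MonoidAlgebra.basis (Multiplicative M' × Multiplicative M') B).constr B
      fun p => if p.2 = 1 then MonoidAlgebra.single p.1 1 else 0
    have e : ∀ (p : Multiplicative M' × Multiplicative M'),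
        π₂ (MonoidAlgebra.single p 1) = if p.2 = 1 then MonoidAlgebra.single p.1 1 else 0 := fun p => by
      rw [← MonoidAlgebra.basis_apply, Module.Basis.constr_basis]
    have ho : ∀ (φ : Multiplicative M' →* Multiplicative M' × Multiplicative M') (j : Multiplicative M'),
        ((MonoidAlgebra.of B (Multiplicative M' × Multiplicative M')).comp φ) j =
          MonoidAlgebra.single (φ j) 1 := fun _ _ => rfl
    have hprod : ((MonoidAlgebra.of B _).comp (MonoidHom.inl (Multiplicative M') (Multiplicative M'))) *
        (MonoidAlgebra.of B _).comp (MonoidHom.inr _ _) =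
        ((MonoidAlgebra.of B _).comp ((MonoidHom.id _).prod (MonoidHom.id (Multiplicative M'))) :
          Multiplicative M' →* D₂) :=
      MonoidHom.ext fun j => by simp [MonoidAlgebra.single_mul_single, D₂]
    have lhs : π₂ (MonoidAlgebra.lift B D₂ (Multiplicative M')
        ((MonoidAlgebra.of B _).comp ((MonoidHom.id _).prod (MonoidHom.id (Multiplicative M')))) x) = c • (1 : D) :=
      DFunLike.congr_fun (f := π₂.comp (MonoidAlgebra.lift B D₂ (Multiplicative M')
          ((MonoidAlgebra.of B _).comp ((MonoidHom.id _).prod (MonoidHom.id (Multiplicative M'))))).toLinearMap)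
        (g := (LinearMap.toSpanSingleton B D 1).comp (int B M'))
        ((MonoidAlgebra.basis (Multiplicative M') B).ext fun j => by
          simp only [LinearMap.comp_apply, MonoidAlgebra.basis_apply, AlgHom.toLinearMap_apply, int_single,
            LinearMap.toSpanSingleton_apply, MonoidAlgebra.lift_single, one_smul]
          refine (congrArg π₂ (show _ = (MonoidAlgebra.single (j, j) 1 : D₂) from rfl)).trans ((e _).trans ?_)
          split_ifs with hj
          all_goals first | (simp_all [MonoidAlgebra.one_def]; rfl) | simp_all [MonoidAlgebra.one_def]) x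
    have rhs : ∀ y z : D, π₂ (MonoidAlgebra.lift B D₂ (Multiplicative M') ((MonoidAlgebra.of B _).comp (MonoidHom.inl _ _)) y *
        MonoidAlgebra.lift B D₂ (Multiplicative M') ((MonoidAlgebra.of B _).comp (MonoidHom.inr _ _)) z) =
        int B M' z • y := by
      intro y z
      refine DFunLike.congr_fun (f := (LinearMap.compr₂ (LinearMap.mul B D₂) π₂).compl₁₂
          (MonoidAlgebra.lift B D₂ (Multiplicative M') ((MonoidAlgebra.of B _).comp (MonoidHom.inl _ _))).toLinearMap
          (MonoidAlgebra.lift B D₂ (Multiplicative M') ((MonoidAlgebra.of B _).comp (MonoidHom.inr _ _))).toLinearMap y)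
        (g := (LinearMap.smulRight (int B M') y)) ?_ z
      refine (MonoidAlgebra.basis (Multiplicative M') B).ext fun k => ?_
      refine DFunLike.congr_fun
        (f := ((LinearMap.compr₂ (LinearMap.mul B D₂) π₂).compl₁₂
          (MonoidAlgebra.lift B D₂ (Multiplicative M') ((MonoidAlgebra.of B _).comp (MonoidHom.inl _ _))).toLinearMap
          (MonoidAlgebra.lift B D₂ (Multiplicative M') ((MonoidAlgebra.of B _).comp (MonoidHom.inr _ _))).toLinearMap).flip
            (MonoidAlgebra.basis (Multiplicative M') B k))
        (g := int B M' (MonoidAlgebra.basis (Multiplicative M') B k) • (LinearMap.id : D →ₗ[B] D)) ?_ y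
      refine (MonoidAlgebra.basis (Multiplicative M') B).ext fun j => ?_
      simp only [LinearMap.flip_apply, LinearMap.compl₁₂_apply, LinearMap.compr₂_apply, LinearMap.mul_apply',
        MonoidAlgebra.basis_apply, AlgHom.toLinearMap_apply, MonoidAlgebra.lift_single, one_smul, int_single,
        LinearMap.smul_apply, LinearMap.id_apply]
      refine (congrArg π₂ (show _ = (MonoidAlgebra.single ((j, 1) * (1, k)) 1 : D₂) from ?_)).trans ((e _).trans ?_)
      · exact (MonoidAlgebra.single_mul_single _ _ _ _).trans (by rw [one_mul]; rfl)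
      simp only [Prod.mk_mul_mk, one_mul, mul_one]
      split_ifs <;> simp
      rfl
    rw [hprod] at h
    have h5 := congrArg π₂ h
    rw [lhs, rhs] at h5
    exact h5.symm
  have h6 : L (c • MonoidAlgebra.single m 1) = L (c • 1) := by
    rw [map_smul, map_smul, map_one]
    exact hx
  have h7 := congrArg (int B M) (hinj h6)
  rw [map_smul, map_smul, int_single, if_neg hm, int_one, smul_zero, smul_eq_mul, mul_one] at h7
  exact h7.symm

/-- The averaged difference does not depend on the splitting. -/
theorem IsAvg.transport {M' : Type} [AddCommGroup M'] {u' v' : Fam G B M'} {z : sp R B ⟶ G} (h : IsAvg u v J hJ z)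
    (L : MonoidAlgebra B (Multiplicative M) →ₐ[B] MonoidAlgebra B (Multiplicative M'))
    (hinj : Function.Injective L)
    (hmul : ∀ (D : Type u) [CommRing D] [Algebra B D] (ψ ψ' : Multiplicative M' →* D) (m : Multiplicative M),
      MonoidAlgebra.lift B D (Multiplicative M') (ψ * ψ') (L (MonoidAlgebra.single m 1)) =
        MonoidAlgebra.lift B D (Multiplicative M') ψ (L (MonoidAlgebra.single m 1)) *
          MonoidAlgebra.lift B D (Multiplicative M') ψ' (L (MonoidAlgebra.single m 1)))
    (hu : u.ev _ (L.toRingHom.toMonoidHom.comp (MonoidAlgebra.of B _)) = u'.ev _ (MonoidAlgebra.of B _))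
    (hv : v.ev _ (L.toRingHom.toMonoidHom.comp (MonoidAlgebra.of B _)) = v'.ev _ (MonoidAlgebra.of B _)) :
    IsAvg u' v' J hJ z := by
  have h1 := IsPush.natural (B := B) h (AlgHom.id R B) (L.restrictScalars R) (AlgHom.id R B) (fun b => L.commutes b)
    (int B M') (int_one B) (fun a => (int_comp_eq L hinj hmul a).symm)
  rw [diff_comp, pt_id', Category.id_comp] at h1
  rwa [show diff u v _ (L.toRingHom.toMonoidHom.comp (MonoidAlgebra.of B _)) =
    diff u' v' _ (MonoidAlgebra.of B _) by rw [diff, hu, hv]; rfl] at h1

end Fam

end Groth.Agent.ConjAvg
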