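import Groth.Agent.ConjAvgLib.Nilp
import Groth.Agent.DescHomLib.Main
import Groth.Agent.SubDescLib.Main

/-!
Homomorphisms of groups of multiplicative type lift along nilpotent thickenings.
-/

set_option autoImplicit false
set_option backward.isDefEq.respectTransparency false

noncomputable section

universe u

open CategoryTheory CategoryTheory.Limits MonoidalCategory CartesianMonoidalCategory AlgebraicGeometry CoactBr
open scoped MonObj

namespace Groth.Agent.ConjAvg

open Groth.Agent.FreeAct (DA)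
open Groth.Agent.DiagRep (baseHom isMonHom_of_comp_mono isMonHom_bc_map)

attribute [local instance] CoactBr.braidedAlgSpecOf

/-- The points of a group commute. -/
def Comm {S : Scheme.{u}} (K : Over S) [GrpObj K] : Prop := ∀ (X : Over S) (a b : X ⟶ K), a * b = b * a

variable {R : Type u} [CommRing R] {G H H' : Over (Spec (CommRingCat.of R))}

/-- Morphisms agreeing on algebras killed by an ideal agree on every killed scheme. -/
theorem eq_on_killed {J : Ideal R} {e f : H ⟶ G}
    (h : ∀ (D : Type u) [CommRing D] [Algebra R D], J ≤ RingHom.ker (algebraMap R D) →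
      ∀ y : sp R D ⟶ H, y ≫ e = y ≫ f)
    (Z : Over (Spec (CommRingCat.of R))) (g : Z ⟶ H) (q : Z.left ⟶ Spec (CommRingCat.of (R ⧸ J)))
    (hq : q ≫ Spec.map (CommRingCat.ofHom (Ideal.Quotient.mk J)) = Z.hom) : g ≫ e = g ≫ f := by
  refine Over.OverMorphism.ext (Scheme.Cover.hom_ext Z.left.affineCover _ _ fun k => ?_)
  haveI : IsAffine (Z.left.affineCover.X k) := inferInstance
  refine (cancel_epi (Z.left.affineCover.X k).isoSpec.inv).1 ?_
  let D : Type u := Γ(Z.left.affineCover.X k, ⊤)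
  let c : Spec (CommRingCat.of D) ⟶ Z.left := (Z.left.affineCover.X k).isoSpec.inv ≫ Z.left.affineCover.f k
  obtain ⟨ψ, hψ⟩ := Spec.map_surjective (c ≫ q)
  letI : Algebra R D := (ψ.hom.comp (Ideal.Quotient.mk J)).toAlgebra
  have hD : J ≤ RingHom.ker (algebraMap R D) := fun r hr => by
    show ψ.hom (Ideal.Quotient.mk J r) = 0
    rw [Ideal.Quotient.eq_zero_iff_mem.2 hr, map_zero]
  let y : sp R D ⟶ H := Over.homMk (c ≫ g.left) (by
    show (c ≫ g.left) ≫ H.hom = Spec.map (CommRingCat.ofHom (ψ.hom.comp (Ideal.Quotient.mk J)))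
    rw [Category.assoc, Over.w g, ← hq, CommRingCat.ofHom_comp, Spec.map_comp, CommRingCat.ofHom_hom, hψ]
    exact (Category.assoc _ _ _).symm)
  have h' := congrArg CommaMorphism.left (h D hD y)
  simp only [Over.comp_left, Over.homMk_left, y, c, Category.assoc] at h'
  simpa only [Over.comp_left, Category.assoc] using h'

/-- The morphism of base changes is the given one modulo the ideal. -/
def ModEq (J : Ideal R) (i : H ⟶ G) (i' : H' ⟶ G) {T : Scheme.{u}} (p : T ⟶ Spec (CommRingCat.of R))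
    (φ : Red.bc p H ⟶ Red.bc p H') : Prop :=
  ∀ (D : Type u) [CommRing D] [Algebra R D], J ≤ RingHom.ker (algebraMap R D) →
    ∀ l : Spec (CommRingCat.of D) ⟶ pullback H.hom p, l ≫ pullback.fst _ _ ≫ H.hom = (sp R D).hom →
      l ≫ φ.left ≫ pullback.fst H'.hom p ≫ i'.left = l ≫ pullback.fst H.hom p ≫ i.left

theorem isNilpotent_map {C : Type u} [CommRing C] (φ : R →+* C) {J : Ideal R} (hJ : IsNilpotent J) :
    IsNilpotent (J.map φ) := by
  obtain ⟨n, hn⟩ := hJ
  exact ⟨n, by rw [← Ideal.map_pow, hn]; exact Ideal.map_bot⟩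

section Grp

variable [GrpObj G] [GrpObj H] [GrpObj H']

theorem comm_bc (hK : Comm G) {T : Scheme.{u}} (p : T ⟶ Spec (CommRingCat.of R)) : Comm (Red.bc p G) := by
  intro X a b
  obtain ⟨a, rfl⟩ := ((Over.mapPullbackAdj p).homEquiv X G).surjective a
  obtain ⟨b, rfl⟩ := ((Over.mapPullbackAdj p).homEquiv X G).surjective b
  rw [← AlgGrp.Action.homEquiv_mul, ← AlgGrp.Action.homEquiv_mul, hK]

/-- Homomorphisms from a split group into a commutative one which agree modulo a nilpotent ideal are equal. -/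
theorem unique_split {M : Type} [AddCommGroup M] (w : sp R (DA R M) ≅ H) [IsMonHom w.hom] {e f : H ⟶ G}
    [IsMonHom e] [IsMonHom f] (hK : Comm G) {J : Ideal R} (hJ : IsNilpotent J)
    (h : ∀ (D : Type u) [CommRing D] [Algebra R D], J ≤ RingHom.ker (algebraMap R D) →
      ∀ y : sp R D ⟶ H, y ≫ e = y ≫ f) : e = f := by
  haveI : IsMonHom (e * f⁻¹) := MultLift.isMonHom_mul_inv fun X g y => hK X _ _
  have h1 := TrivNil.act_eq_snd_split w (MultLift.transAction (e * f⁻¹)) hJ (fun Z g x q hq => by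
    rw [MultLift.lift_transAction, MonObj.comp_mul, GrpObj.comp_inv, eq_on_killed h Z g q hq, mul_inv_cancel,
      one_mul])
  have h2 := MultLift.lift_transAction (e * f⁻¹) (𝟙 H) 1
  rw [h1, lift_snd, Category.id_comp, mul_one] at h2
  exact mul_inv_eq_one.1 h2.symm

/-- Lifting the identification modulo a nilpotent ideal of split subgroups. -/
theorem exists_lift_split {M M' : Type} [AddCommGroup M] [AddCommGroup M'] (w : sp R (DA R M) ≅ H) [IsMonHom w.hom]
    (w' : sp R (DA R M') ≅ H') [IsMonHom w'.hom] (i : H ⟶ G) [IsMonHom i] (i' : H' ⟶ G) [IsMonHom i'] [Mono i']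
    {J : Ideal R} (hJ : IsNilpotent J) (h0 : MultLift.LeMod i i' J) :
    ∃ φ : H ⟶ H', IsMonHom φ ∧ ∀ (D : Type u) [CommRing D] [Algebra R D], J ≤ RingHom.ker (algebraMap R D) →
      ∀ y : sp R D ⟶ H, y ≫ φ ≫ i' = y ≫ i := by
  let j : Spec (CommRingCat.of (R ⧸ J)) ⟶ Spec (CommRingCat.of R) := baseHom R (R ⧸ J)
  let P := Over.pullback j
  let adj := Over.mapPullbackAdj j
  let Y := (Over.map j).obj (Red.bc j (sp R (DA R M)))
  let h : Y ⟶ sp R (DA R M) := (adj.homEquiv _ _).symm (𝟙 _)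
  obtain ⟨h', hh'⟩ := h0 Y (Red.bc j (sp R (DA R M))).hom rfl (h ≫ w.hom)
  let ψ : Red.bc j (sp R (DA R M)) ⟶ Red.bc j (sp R (DA R M')) := adj.homEquiv _ _ (h' ≫ w'.inv)
  let k := w.hom ≫ i
  let k' := w'.hom ≫ i'
  haveI : Mono k' := mono_comp _ _
  haveI : PreservesLimitsOfSize.{0, 0} P := adj.rightAdjoint_preservesLimits
  haveI : Mono (P.map k') := inferInstance
  have hψ : ψ ≫ P.map k' = P.map k := by
    rw [← adj.homEquiv_naturality_right]
    have e : (h' ≫ w'.inv) ≫ k' = h ≫ k := by simp [k, k', hh']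
    rw [e, adj.homEquiv_naturality_right, Equiv.apply_symm_apply, Category.id_comp]
  haveI hk : IsMonHom (M := Red.bc j (sp R (DA R M))) (N := Red.bc j G) (P.map k) := isMonHom_bc_map j k
  haveI hk' : IsMonHom (M := Red.bc j (sp R (DA R M'))) (N := Red.bc j G) (P.map k') := isMonHom_bc_map j k'
  haveI : IsMonHom (ψ ≫ P.map k') := by rw [hψ]; exact hk
  haveI : IsMonHom ψ := isMonHom_of_comp_mono ψ (P.map k')
  obtain ⟨φ, hφ, hφψ⟩ := MultLift.exists_lift hJ ψ
  haveI := hφ
  have hmap : P.map (φ ≫ k') = P.map k := by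
    rw [Functor.map_comp]
    exact (congrArg (· ≫ P.map k') hφψ).trans hψ
  refine ⟨w.inv ≫ φ ≫ w'.hom, inferInstance, fun D _ _ hD y => ?_⟩
  let Z := sp R D
  let g : Z ⟶ sp R (DA R M) := y ≫ w.inv
  have hg : g ≫ φ ≫ k' = g ≫ k := by
    apply Over.OverMorphism.ext
    let l : Z.left ⟶ pullback (sp R (DA R M)).hom j := pullback.lift g.left
      (Spec.map (CommRingCat.ofHom (Ideal.Quotient.lift J (algebraMap R D) fun r hr => hD hr))) (by
      rw [Over.w g]
      show Spec.map (CommRingCat.ofHom (algebraMap R D)) = _ ≫ Spec.map (CommRingCat.ofHom (Ideal.Quotient.mk J))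
      rw [← Spec.map_comp, ← CommRingCat.ofHom_comp, Ideal.Quotient.lift_comp_mk])
    have hl : l ≫ pullback.fst _ _ = g.left := pullback.lift_fst _ _ _
    have he : ∀ f : sp R (DA R M) ⟶ G,
        (P.map f).left ≫ pullback.fst G.hom j = pullback.fst (sp R (DA R M)).hom j ≫ f.left :=
      fun f => pullback.lift_fst _ _ _
    rw [Over.comp_left, Over.comp_left Z _ _ g k, ← hl, Category.assoc, Category.assoc, ← he, ← he, hmap]
  simp only [g, k, k', Category.assoc, Iso.inv_hom_id_assoc] at hg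
  simp only [Category.assoc]
  exact hg

theorem leMod_bc (i : H ⟶ G) (i' : H' ⟶ G) {C : Type u} [CommRing C]
    (p : Spec (CommRingCat.of C) ⟶ Spec (CommRingCat.of R)) (φr : CommRingCat.of R ⟶ CommRingCat.of C)
    (hp : Spec.map φr = p) {J : Ideal R} (h0 : MultLift.LeMod i i' J) :
    MultLift.LeMod (G := Red.bc p G) (H := Red.bc p H) (H' := Red.bc p H') ((Over.pullback p).map i)
      ((Over.pullback p).map i') (J.map φr.hom) := by
  subst hp
  let adj := Over.mapPullbackAdj (Spec.map φr)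
  intro Y q hq h
  obtain ⟨h₀, rfl⟩ := (adj.homEquiv Y H).surjective h
  let ψ : CommRingCat.of (R ⧸ J) ⟶ CommRingCat.of (C ⧸ J.map φr.hom) :=
    CommRingCat.ofHom (Ideal.quotientMap _ φr.hom Ideal.le_comap_map)
  obtain ⟨h', hh'⟩ := h0 ((Over.map (Spec.map φr)).obj Y) (q ≫ Spec.map ψ) (by
    show (q ≫ Spec.map ψ) ≫ _ = Y.hom ≫ Spec.map φr
    rw [← hq, Category.assoc, Category.assoc]
    congr 1
    have e : CommRingCat.ofHom (Ideal.Quotient.mk J) ≫ ψ =
      φr ≫ CommRingCat.ofHom (Ideal.Quotient.mk (J.map φr.hom)) := rfl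
    exact (Spec.map_comp _ _).symm.trans ((congrArg Spec.map e).trans (Spec.map_comp _ _))) h₀
  refine ⟨adj.homEquiv _ _ h', ?_⟩
  exact (adj.homEquiv_naturality_right h' i').symm.trans
    ((congrArg (adj.homEquiv Y G) hh').trans (adj.homEquiv_naturality_right h₀ i))

/-- Lifting over a split piece. -/
theorem exists_modEq (i : H ⟶ G) [IsMonHom i] (i' : H' ⟶ G) [IsMonHom i'] [Mono i'] {J : Ideal R}
    (hJ : IsNilpotent J) (h0 : MultLift.LeMod i i' J) {C : Type u} [CommRing C]
    (p : Spec (CommRingCat.of C) ⟶ Spec (CommRingCat.of R)) {M M' : Type} [AddCommGroup M] [AddCommGroup M']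
    (w : sp C (DA C M) ≅ Red.bc p H) [IsMonHom w.hom] (w' : sp C (DA C M') ≅ Red.bc p H') [IsMonHom w'.hom] :
    ∃ φ : Red.bc p H ⟶ Red.bc p H', IsMonHom φ ∧ ModEq J i i' p φ := by
  obtain ⟨φr, hφr⟩ := Spec.map_surjective p
  let P := Over.pullback p
  haveI : PreservesLimitsOfSize.{0, 0} P := (Over.mapPullbackAdj p).rightAdjoint_preservesLimits
  haveI : Mono (P.map i') := inferInstance
  let I : Red.bc p H ⟶ Red.bc p G := P.map i
  let I' : Red.bc p H' ⟶ Red.bc p G := P.map i'
  haveI : IsMonHom I := isMonHom_bc_map p i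
  haveI : IsMonHom I' := isMonHom_bc_map p i'
  haveI : Mono I' := inferInstanceAs (Mono (P.map i'))
  obtain ⟨φ, hφ, hmod⟩ := exists_lift_split w w' I I' (isNilpotent_map φr.hom hJ) (leMod_bc i i' p φr hφr h0)
  refine ⟨φ, hφ, fun D _ _ hD l hl => ?_⟩
  obtain ⟨ψ, hψ⟩ := Spec.map_surjective (l ≫ pullback.snd H.hom p)
  letI : Algebra C D := ψ.hom.toAlgebra
  have hRD : algebraMap R D = ψ.hom.comp φr.hom := by
    have : Spec.map (CommRingCat.ofHom (algebraMap R D)) = Spec.map (φr ≫ ψ) := by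
      rw [Spec.map_comp, hψ, hφr, Category.assoc, ← pullback.condition]
      exact hl.symm
    exact congrArg CommRingCat.Hom.hom (Spec.map_injective this)
  let y : sp C D ⟶ Red.bc p H := Over.homMk l (by
    show l ≫ pullback.snd H.hom p = Spec.map (CommRingCat.ofHom ψ.hom)
    rw [CommRingCat.ofHom_hom, hψ])
  have h := hmod D (Ideal.map_le_iff_le_comap.2 fun r hr => by
    show ψ.hom (φr.hom r) = 0
    rw [← RingHom.comp_apply, ← hRD]
    exact hD hr) y
  have h' := congrArg (fun m => m.left ≫ pullback.fst G.hom p) h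
  simp only [Over.comp_left, Category.assoc, I, I', P, ActBC.pullback_map_left_fst] at h'
  exact h'

omit [GrpObj G] [GrpObj H] [GrpObj H'] in
theorem ModEq.wmap {i : H ⟶ G} {i' : H' ⟶ G} {J : Ideal R} {T P : Scheme.{u}} {π : T ⟶ Spec (CommRingCat.of R)}
    [GrpObj H] [GrpObj H'] {φ : Red.bc π H ⟶ Red.bc π H'} (h : ModEq J i i' π φ) (q : P ⟶ T)
    (p : P ⟶ Spec (CommRingCat.of R)) (hq : q ≫ π = p) : ModEq J i i' p (DescHom.wmap π φ q p hq) := by
  intro D _ _ hD l hl
  have e := DescHom.wmap_fst π φ q p hq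
  rw [← Category.assoc (DescHom.wmap π φ q p hq).left, e]
  simp only [Category.assoc]
  rw [← Category.assoc l]
  refine (h D hD _ ?_).trans ?_
  · rw [Category.assoc, pullback.lift_fst_assoc]
    exact hl
  · rw [Category.assoc, pullback.lift_fst_assoc]

/-- Base changed homomorphisms which are the given one modulo the ideal agree. -/
theorem ModEq.unique {i : H ⟶ G} {i' : H' ⟶ G} [Mono i'.left] (hH' : Comm H') {J : Ideal R} (hJ : IsNilpotent J)
    {C : Type u} [CommRing C] (p : Spec (CommRingCat.of C) ⟶ Spec (CommRingCat.of R)) {M : Type} [AddCommGroup M]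
    (w : sp C (DA C M) ≅ Red.bc p H) [IsMonHom w.hom] {φ φ' : Red.bc p H ⟶ Red.bc p H'} [IsMonHom φ] [IsMonHom φ']
    (h : ModEq J i i' p φ) (h' : ModEq J i i' p φ') : φ = φ' := by
  obtain ⟨φr, hφr⟩ := Spec.map_surjective p
  refine unique_split w (comm_bc hH' p) (isNilpotent_map φr.hom hJ) fun D _ _ hD y => ?_
  letI : Algebra R D := ((algebraMap C D).comp φr.hom).toAlgebra
  have hD' : J ≤ RingHom.ker (algebraMap R D) := fun r hr => hD (Ideal.mem_map_of_mem φr.hom hr)
  have hl : y.left ≫ pullback.fst H.hom p ≫ H.hom = (sp R D).hom := by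
    rw [pullback.condition]
    show y.left ≫ (Red.bc p H).hom ≫ p = Spec.map (CommRingCat.ofHom _)
    rw [← Category.assoc, Over.w y, ← hφr]
    exact (Spec.map_comp φr (CommRingCat.ofHom (algebraMap C D))).symm.trans rfl
  refine Over.OverMorphism.ext (pullback.hom_ext ?_ ((Over.w (y ≫ φ)).trans (Over.w (y ≫ φ')).symm))
  rw [← cancel_mono i'.left]
  simp only [Over.comp_left, Category.assoc]
  exact (h D hD' y.left hl).trans (h' D hD' y.left hl).symm

/-- A splitting over an algebra over a split piece. -/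
theorem exists_split_of {C B : Type u} [CommRing C] [CommRing B] {M : Type} [AddCommGroup M]
    {pB : Spec (CommRingCat.of B) ⟶ Spec (CommRingCat.of R)} {U : Scheme.{u}} {g : U ⟶ Spec (CommRingCat.of R)}
    (e : Grp.mk (Red.bc g H) ≅ Grp.mk (Red.DS U M)) (j : Spec (CommRingCat.of B) ⟶ U) (hj : j ≫ g = pB)
    (a : Spec (CommRingCat.of C) ⟶ Spec (CommRingCat.of B)) :
    ∃ w : sp C (DA C M) ≅ Red.bc (a ≫ pB) H, IsMonHom w.hom :=
  MultLift.exists_split_iso e (a ≫ j) _ (by rw [Category.assoc, hj])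

/-- An affine piece on which both groups are split. -/
structure Piece₂ (H H' : Over (Spec (CommRingCat.of R))) [GrpObj H] [GrpObj H'] where
  /-- the ring -/
  B : Type u
  [crB : CommRing B]
  /-- the map to the base -/
  p : Spec (CommRingCat.of B) ⟶ Spec (CommRingCat.of R)
  /-- characters -/
  M : Type
  [agM : AddCommGroup M]
  /-- characters -/
  M' : Type
  [agM' : AddCommGroup M']
  /-- the splitting -/
  U : Scheme.{u}
  /-- its structure map -/
  g : U ⟶ Spec (CommRingCat.of R)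
  /-- the splitting -/
  e : Grp.mk (Red.bc g H) ≅ Grp.mk (Red.DS U M)
  /-- the map to it -/
  j : Spec (CommRingCat.of B) ⟶ U
  hj : j ≫ g = p
  /-- the splitting -/
  U' : Scheme.{u}
  /-- its structure map -/
  g' : U' ⟶ Spec (CommRingCat.of R)
  /-- the splitting -/
  e' : Grp.mk (Red.bc g' H') ≅ Grp.mk (Red.DS U' M')
  /-- the map to it -/
  j' : Spec (CommRingCat.of B) ⟶ U'
  hj' : j' ≫ g' = p

attribute [instance] Piece₂.crB Piece₂.agM Piece₂.agM'

/-- A covering by pieces on which both groups are split. -/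
theorem exists_pieces
    (hH : TwC.Locally (Spec (CommRingCat.of R)) TwC.Topology.fpqc (fun S' f => ∃ (M : Type) (_ : AddCommGroup M),
      Nonempty (Grp.mk (Red.bc f H) ≅ Grp.mk (Red.DS S' M))))
    (hH' : TwC.Locally (Spec (CommRingCat.of R)) TwC.Topology.fpqc (fun S' f => ∃ (M : Type) (_ : AddCommGroup M),
      Nonempty (Grp.mk (Red.bc f H') ≅ Grp.mk (Red.DS S' M)))) :
    ∃ (Z : Scheme.{u}) (π : Z ⟶ Spec (CommRingCat.of R)) (_ : Flat π) (_ : Surjective π) (P : Z → Piece₂ H H')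
      (jz : ∀ z, Spec (CommRingCat.of (P z).B) ⟶ Z),
      (∀ V : (Spec (CommRingCat.of R)).Opens, IsAffineOpen V →
        ∃ W : Z.Opens, IsCompact (W : Set Z) ∧ π.base '' (W : Set Z) = (V : Set (Spec (CommRingCat.of R)))) ∧
      ∀ z, IsOpenImmersion (jz z) ∧ z ∈ Set.range (jz z) ∧ jz z ≫ π = (P z).p := by
  obtain ⟨S₁, f, hflat, hsurj, hcov, hloc⟩ := hH
  obtain ⟨S₂, f', hflat', hsurj', hcov', hloc'⟩ := hH'
  haveI := hflat
  haveI := hflat'
  haveI := hsurj
  haveI := hsurj'
  let Z := pullback f f'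
  let π : Z ⟶ Spec (CommRingCat.of R) := pullback.fst f f' ≫ f
  have hcovπ := SubDesc.hcov_comp f (pullback.fst f f') (DescHom.hcov_pullback_snd f' f hcov') hcov
  have hex : ∀ z : Z, ∃ (P : Piece₂ H H') (jz : Spec (CommRingCat.of P.B) ⟶ Z),
      IsOpenImmersion jz ∧ z ∈ Set.range jz ∧ jz ≫ π = P.p := by
    intro z
    obtain ⟨U, hU, M, _, ⟨e⟩⟩ := hloc (pullback.fst f f' z)
    obtain ⟨U', hU', M', _, ⟨e'⟩⟩ := hloc' (pullback.snd f f' z)
    obtain ⟨T, hT, hzT, hTU⟩ := exists_isAffineOpen_mem_and_subset (X := Z) (x := z)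
      (U := (pullback.fst f f') ⁻¹ᵁ U ⊓ (pullback.snd f f') ⁻¹ᵁ U') ⟨hU, hU'⟩
    haveI : IsAffine (T : Scheme.{u}) := hT
    let i₀ := (T : Scheme.{u}).isoSpec.inv
    refine ⟨{ B := Γ((T : Scheme.{u}), ⊤), p := i₀ ≫ T.ι ≫ π, M := M, M' := M', U := U, g := U.ι ≫ f, e := e,
              j := i₀ ≫ (pullback.fst f f').resLE U T (hTU.trans inf_le_left), hj := ?_,
              U' := U', g' := U'.ι ≫ f', e' := e',
              j' := i₀ ≫ (pullback.snd f f').resLE U' T (hTU.trans inf_le_right), hj' := ?_ }, i₀ ≫ T.ι, ?_, ?_, ?_⟩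
    · rw [Category.assoc, Scheme.Hom.resLE_comp_ι_assoc]
    · rw [Category.assoc, Scheme.Hom.resLE_comp_ι_assoc]
      exact congrArg (fun m => i₀ ≫ T.ι ≫ m) pullback.condition.symm
    · show IsOpenImmersion ((T : Scheme.{u}).isoSpec.inv ≫ T.ι)
      infer_instance
    · obtain ⟨a, ha⟩ := (T : Scheme.{u}).isoSpec.inv.surjective ⟨z, hzT⟩
      exact ⟨a, (congrArg T.ι ha).trans rfl⟩
    · exact Category.assoc _ _ _
  choose P jz h1 h2 h3 using hex
  exact ⟨Z, π, inferInstance, inferInstance, P, jz, hcovπ, fun z => ⟨h1 z, h2 z, h3 z⟩⟩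

end Grp

end Groth.Agent.ConjAvg
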