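import Groth.Agent.ConjAvgLib.Nilp

/-!
Points of smooth schemes lift along affine nilpotent thickenings.
-/

set_option autoImplicit false
set_option backward.isDefEq.respectTransparency false

noncomputable section

universe u

open CategoryTheory CategoryTheory.Limits MonoidalCategory CartesianMonoidalCategory AlgebraicGeometry CoactBr
open scoped MonObj

namespace Groth.Agent.ConjAvg

attribute [local instance] CoactBr.braidedAlgSpecOf

variable {R : Type u} [CommRing R] {X : Over (Spec (CommRingCat.of R))}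

theorem exists_lift_algebra_sq [Smooth X.hom] {A : Type u} [CommRing A] [Algebra R A] {K : Ideal A}
    (hK : K ^ 2 = ⊥) (g₀ : sp R (A ⧸ K) ⟶ X) : ∃ g : sp R A ⟶ X, pt (Ideal.Quotient.mkₐ R K) ≫ g = g₀ := by
  let p : Spec (CommRingCat.of A) ⟶ Spec (CommRingCat.of R) := (sp R A).hom
  let adj := Over.mapPullbackAdj p
  let X' : Over (Spec (CommRingCat.of A)) := (Over.pullback p).obj X
  haveI : Smooth X'.hom := inferInstanceAs (Smooth (pullback.snd X.hom p))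
  let εK : (Over.map p).obj (SqLift.S₀ K) ⟶ sp R (A ⧸ K) := Over.homMk (𝟙 _) (by
    show 𝟙 _ ≫ Spec.map (CommRingCat.ofHom (algebraMap R (A ⧸ K))) =
      Spec.map (CommRingCat.ofHom (Ideal.Quotient.mk K)) ≫ Spec.map (CommRingCat.ofHom (algebraMap R A))
    rw [Category.id_comp, ← Spec.map_comp, ← CommRingCat.ofHom_comp]
    rfl)
  obtain ⟨s, hs⟩ := SqLift.exists_lift_sq (X := X') hK (adj.homEquiv _ X (εK ≫ g₀))
  let εA : sp R A ⟶ (Over.map p).obj (𝟙_ (Over (Spec (CommRingCat.of A)))) := Over.homMk (𝟙 _) (by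
    show 𝟙 _ ≫ 𝟙 _ ≫ p = _
    rw [Category.id_comp, Category.id_comp])
  refine ⟨εA ≫ (adj.homEquiv _ X).symm s, ?_⟩
  haveI : IsIso ((Over.forget _).map εK) := inferInstanceAs (IsIso (𝟙 _))
  haveI : IsIso εK := isIso_of_reflects_iso _ (Over.forget _)
  have e : εK ≫ pt (Ideal.Quotient.mkₐ R K) ≫ εA = (Over.map p).map (toUnit (SqLift.S₀ K)) := by
    refine Over.OverMorphism.ext ?_
    have ht : (toUnit (SqLift.S₀ K)).left = (SqLift.S₀ K).hom :=
      (Category.comp_id _).symm.trans (Over.w (toUnit _))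
    show 𝟙 _ ≫ Spec.map (CommRingCat.ofHom (Ideal.Quotient.mk K)) ≫ 𝟙 _ = (toUnit (SqLift.S₀ K)).left
    rw [ht, Category.id_comp, Category.comp_id]
    rfl
  rw [← cancel_epi εK, ← Category.assoc, ← Category.assoc, Category.assoc εK, e,
    ← adj.homEquiv_naturality_left_symm, hs, Equiv.symm_apply_apply]

theorem exists_lift_algebra [Smooth X.hom] {A : Type u} [CommRing A] [iA : Algebra R A] {K : Ideal A}
    (hK : IsNilpotent K) (g₀ : sp R (A ⧸ K) ⟶ X) : ∃ g : sp R A ⟶ X, pt (Ideal.Quotient.mkₐ R K) ≫ g = g₀ := by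
  revert iA g₀
  refine Ideal.IsNilpotent.induction_on K hK
    (P := fun S _ I => ∀ [Algebra R S] (g₀ : sp R (S ⧸ I) ⟶ X),
      ∃ g : sp R S ⟶ X, pt (Ideal.Quotient.mkₐ R I) ≫ g = g₀) ?_ ?_
  · intro S _ I hI _ g₀
    exact exists_lift_algebra_sq hI g₀
  · intro S _ I J hIJ hPI hPJ _ g₀
    let e : ((S ⧸ I) ⧸ J.map (Ideal.Quotient.mk I)) ≃ₐ[R] S ⧸ J := DoubleQuot.quotQuotEquivQuotOfLEₐ R hIJ
    obtain ⟨g₁, hg₁⟩ := hPJ (pt e.symm.toAlgHom ≫ g₀)
    obtain ⟨g, hg⟩ := hPI g₁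
    refine ⟨g, ?_⟩
    have e1 : Ideal.Quotient.mkₐ R J =
        (e.toAlgHom.comp (Ideal.Quotient.mkₐ R (J.map (Ideal.Quotient.mk I)))).comp (Ideal.Quotient.mkₐ R I) :=
      AlgHom.ext fun _ => rfl
    rw [e1, pt_comp, pt_comp, Category.assoc, Category.assoc, hg, hg₁, ← Category.assoc, ← pt_comp,
      show e.toAlgHom.comp e.symm.toAlgHom = AlgHom.id R _ from AlgHom.ext e.apply_symm_apply, pt_id',
      Category.id_comp]

/-- Points over the closed subscheme of a nilpotent ideal lift. -/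
theorem exists_lift_nilpotent [Smooth X.hom] {J : Ideal R} (hJ : IsNilpotent J) (g₀ : SqLift.S₀ J ⟶ X) :
    ∃ g : 𝟙_ (Over (Spec (CommRingCat.of R))) ⟶ X, toUnit (SqLift.S₀ J) ≫ g = g₀ := by
  let ε : sp R (R ⧸ J) ⟶ SqLift.S₀ J := SqLift.toS₀ (R ⧸ J) (fun r hr => by
    rw [RingHom.mem_ker]
    exact Ideal.Quotient.eq_zero_iff_mem.2 hr)
  let ε' : SqLift.S₀ J ⟶ sp R (R ⧸ J) := Over.homMk (𝟙 _) (Category.id_comp _)
  have h1 : ε' ≫ ε = 𝟙 _ := SqLift.hom_ext_S₀ _ _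
  obtain ⟨g, hg⟩ := exists_lift_algebra hJ (ε ≫ g₀)
  let η' : 𝟙_ (Over (Spec (CommRingCat.of R))) ⟶ sp R R := Over.homMk (𝟙 _) (by
    show 𝟙 (Spec (CommRingCat.of R)) ≫ Spec.map (CommRingCat.ofHom (algebraMap R R)) = 𝟙 _
    rw [Category.id_comp, Algebra.algebraMap_self, CommRingCat.ofHom_id, Spec.map_id])
  refine ⟨η' ≫ g, ?_⟩
  have e : toUnit (SqLift.S₀ J) ≫ η' = ε' ≫ pt (Ideal.Quotient.mkₐ R J) := by
    refine Over.OverMorphism.ext ?_
    have ht : (toUnit (SqLift.S₀ J)).left = (SqLift.S₀ J).hom :=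
      (Category.comp_id _).symm.trans (Over.w (toUnit _))
    show (toUnit (SqLift.S₀ J)).left ≫ 𝟙 _ = 𝟙 _ ≫ Spec.map (CommRingCat.ofHom (Ideal.Quotient.mk J))
    rw [ht, Category.id_comp, Category.comp_id]
    rfl
  rw [← Category.assoc, e, Category.assoc, hg, ← Category.assoc, h1, Category.id_comp]

end Groth.Agent.ConjAvg
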