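import Groth.Agent.ConjAvgLib.Average
import Groth.Agent.DescHomLib.Epi
import Groth.Agent.MultEqLib.Piece

/-!
Homomorphisms from groups of multiplicative type which agree modulo a square-zero ideal are conjugate.
-/

set_option autoImplicit false
set_option backward.isDefEq.respectTransparency false

noncomputable section

universe u

open CategoryTheory CategoryTheory.Limits MonoidalCategory CartesianMonoidalCategory AlgebraicGeometry CoactBr
open scoped MonObj TensorProduct

namespace Groth.Agent.ConjAvg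

open Groth.Agent.FreeAct (DA)
open Groth.Agent.MonoLocus (hpt hpt_mul hpt_injective hpt_surjective)

attribute [local instance] CoactBr.braidedAlgSpecOf

variable {R : Type u} [CommRing R] {G H : Over (Spec (CommRingCat.of R))} [GrpObj G] [GrpObj H]

section Pts

variable {B : Type u} [CommRing B] [Algebra R B] {M : Type} [AddCommGroup M]

/-- An algebra over `B` as an algebra over `R`. -/
def shift (B : Type u) [CommRing B] [Algebra R B] (C : Type u) [CommRing C] [Algebra R C] [Algebra B C]
    [IsScalarTower R B C] : sp R C ⟶ (Over.map (sp R B).hom).obj (sp B C) :=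
  Over.homMk (𝟙 _) (by
    show 𝟙 _ ≫ Spec.map (CommRingCat.ofHom (algebraMap B C)) ≫ Spec.map (CommRingCat.ofHom (algebraMap R B)) =
      Spec.map (CommRingCat.ofHom (algebraMap R C))
    rw [Category.id_comp, ← Spec.map_comp, ← CommRingCat.ofHom_comp, ← IsScalarTower.algebraMap_eq])

instance isIso_shift (C : Type u) [CommRing C] [Algebra R C] [Algebra B C] [IsScalarTower R B C] :
    IsIso (shift (R := R) B C) := by
  haveI : IsIso ((Over.forget _).map (shift (R := R) B C)) := inferInstanceAs (IsIso (𝟙 _))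
  exact isIso_of_reflects_iso _ (Over.forget _)

theorem shift_natural {C D : Type u} [CommRing C] [Algebra R C] [Algebra B C] [IsScalarTower R B C] [CommRing D]
    [Algebra R D] [Algebra B D] [IsScalarTower R B D] (L : C →ₐ[B] D) :
    pt (L.restrictScalars R) ≫ shift B C = shift B D ≫ (Over.map (sp R B).hom).map (pt L) := by
  refine Over.OverMorphism.ext ?_
  show Spec.map (CommRingCat.ofHom L.toRingHom) ≫ 𝟙 _ = 𝟙 _ ≫ Spec.map (CommRingCat.ofHom L.toRingHom)
  rw [Category.id_comp, Category.comp_id]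

variable (w : sp B (DA B M) ≅ Red.bc (sp R B).hom H)

/-- The points of the group given by characters. -/
def pts (C : Type u) [CommRing C] [Algebra R C] [Algebra B C] [IsScalarTower R B C] (χ : Multiplicative M →* C) :
    sp R C ⟶ H :=
  shift B C ≫ hpt (sp R B).hom w χ

theorem pts_injective (C : Type u) [CommRing C] [Algebra R C] [Algebra B C] [IsScalarTower R B C] :
    Function.Injective (pts w C) := fun _ _ h => hpt_injective _ _ ((cancel_epi (shift B C)).1 h)

theorem pts_surjective (C : Type u) [CommRing C] [Algebra R C] [Algebra B C] [IsScalarTower R B C]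
    (h : sp R C ⟶ H) : ∃ χ, h = pts w C χ := by
  obtain ⟨χ, hχ⟩ := hpt_surjective (sp R B).hom w (inv (shift B C) ≫ h)
  exact ⟨χ, by rw [pts, ← hχ, IsIso.hom_inv_id_assoc]⟩

theorem pts_comp {C D : Type u} [CommRing C] [Algebra R C] [Algebra B C] [IsScalarTower R B C] [CommRing D]
    [Algebra R D] [Algebra B D] [IsScalarTower R B D] (L : C →ₐ[B] D) (χ : Multiplicative M →* C) :
    pt (L.restrictScalars R) ≫ pts w C χ = pts w D (L.toRingHom.toMonoidHom.comp χ) := by
  rw [pts, pts, ← Category.assoc, shift_natural, Category.assoc, MultEq.hpt_natural]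

theorem pts_mul [IsMonHom w.hom] (C : Type u) [CommRing C] [Algebra R C] [Algebra B C] [IsScalarTower R B C]
    (χ χ' : Multiplicative M →* C) : pts w C (χ * χ') = pts w C χ * pts w C χ' := by
  rw [pts, pts, pts, hpt_mul, MonObj.comp_mul]

/-- The family given by a homomorphism. -/
def famOf [IsMonHom w.hom] (u : H ⟶ G) [IsMonHom u] : Fam G B M where
  ev C _ _ _ _ χ := pts w C χ ≫ u
  ev_mul C _ _ _ _ χ χ' := by rw [pts_mul, MonObj.mul_comp]
  ev_comp L χ := by rw [← Category.assoc, pts_comp]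

/-- Two homomorphisms agree modulo `J`. -/
def AgreeMod (J : Ideal R) (u v : H ⟶ G) : Prop :=
  ∀ (C : Type u) [CommRing C] [Algebra R C], J ≤ RingHom.ker (algebraMap R C) → ∀ h : sp R C ⟶ H, h ≫ u = h ≫ v

theorem eqMod_famOf [IsMonHom w.hom] {J : Ideal R} {u v : H ⟶ G} [IsMonHom u] [IsMonHom v] (h : AgreeMod J u v) :
    Fam.EqMod (famOf w u) (famOf w v) J :=
  fun C _ _ _ _ hC χ => h C hC (pts w C χ)

/-- The averaged difference of a splitting gives the one of a splitting over an algebra. -/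
theorem isAvg_bc [IsMonHom w.hom] {J : Ideal R} {hJ : J ^ 2 = ⊥} {u v : H ⟶ G} [IsMonHom u] [IsMonHom v]
    (C : Type u) [CommRing C] [Algebra R C] [Algebra B C] [IsScalarTower R B C] {M' : Type} [AddCommGroup M']
    (w' : sp C (DA C M') ≅ Red.bc (sp R C).hom H) [IsMonHom w'.hom] {z : sp R B ⟶ G}
    (h : Fam.IsAvg (famOf w u) (famOf w v) J hJ z) :
    Fam.IsAvg (famOf w' u) (famOf w' v) J hJ (pt (IsScalarTower.toAlgHom R B C) ≫ z) := by
  let A := MonoidAlgebra C (Multiplicative M)
  let A' := MonoidAlgebra C (Multiplicative M')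
  obtain ⟨χ, hχ⟩ := pts_surjective w A' (pts w' A' (MonoidAlgebra.of C _))
  obtain ⟨χ', hχ'⟩ := pts_surjective w' A (pts w A (MonoidAlgebra.of C _))
  let L : A →ₐ[C] A' := MonoidAlgebra.lift C A' (Multiplicative M) χ
  let L' : A' →ₐ[C] A := MonoidAlgebra.lift C A (Multiplicative M') χ'
  have hL : L.toRingHom.toMonoidHom.comp (MonoidAlgebra.of C _) = χ := MonoidHom.ext fun m => by
    show MonoidAlgebra.lift C A' (Multiplicative M) χ (MonoidAlgebra.single m 1) = χ m
    exact (MonoidAlgebra.lift_single _ _ _).trans (one_smul _ _)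
  have hL' : L'.toRingHom.toMonoidHom.comp (MonoidAlgebra.of C _) = χ' := MonoidHom.ext fun m => by
    show MonoidAlgebra.lift C A (Multiplicative M') χ' (MonoidAlgebra.single m 1) = χ' m
    exact (MonoidAlgebra.lift_single _ _ _).trans (one_smul _ _)
  have hinv : ∀ a, L' (L a) = a := fun a => by
    have h1 : L'.toRingHom.toMonoidHom.comp χ = MonoidAlgebra.of C _ := pts_injective w A (by
      have h2 := pts_comp w (L'.restrictScalars B) χ
      rw [← hχ] at h2
      have h3 := pts_comp w' L' (MonoidAlgebra.of C _)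
      rw [hL', ← hχ'] at h3
      exact h2.symm.trans h3)
    refine DFunLike.congr_fun (f := L'.comp L) (g := AlgHom.id C A)
      (AlgHom.toLinearMap_injective ((MonoidAlgebra.basis (Multiplicative M) C).ext fun m => ?_)) a
    rw [MonoidAlgebra.basis_apply]
    show L' (L (MonoidAlgebra.single m 1)) = MonoidAlgebra.single m 1
    rw [show L (MonoidAlgebra.single m 1) = χ m from DFunLike.congr_fun hL m]
    exact DFunLike.congr_fun h1 m
  have hmul : ∀ (D : Type u) [CommRing D] [Algebra C D] (ψ ψ' : Multiplicative M' →* D) (m : Multiplicative M),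
      MonoidAlgebra.lift C D (Multiplicative M') (ψ * ψ') (L (MonoidAlgebra.single m 1)) =
        MonoidAlgebra.lift C D (Multiplicative M') ψ (L (MonoidAlgebra.single m 1)) *
          MonoidAlgebra.lift C D (Multiplicative M') ψ' (L (MonoidAlgebra.single m 1)) := by
    intro D _ _ ψ ψ' m
    letI : Algebra B D := ((algebraMap C D).comp (algebraMap B C)).toAlgebra
    letI : Algebra R D := ((algebraMap C D).comp (algebraMap R C)).toAlgebra
    haveI : IsScalarTower B C D := IsScalarTower.of_algebraMap_eq fun b => rfl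
    haveI : IsScalarTower R C D := IsScalarTower.of_algebraMap_eq fun b => rfl
    haveI : IsScalarTower R B D := IsScalarTower.of_algebraMap_eq fun b => by
      show algebraMap C D (algebraMap R C b) = algebraMap C D (algebraMap B C (algebraMap R B b))
      rw [← IsScalarTower.algebraMap_apply R B C]
    have key : ∀ φ : Multiplicative M' →* D,
        pts w D ((MonoidAlgebra.lift C D (Multiplicative M') φ).toRingHom.toMonoidHom.comp χ) = pts w' D φ := by
      intro φ
      have h2 := pts_comp w ((MonoidAlgebra.lift C D (Multiplicative M') φ).restrictScalars B) χ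
      rw [← hχ] at h2
      refine h2.symm.trans ((pts_comp w' (MonoidAlgebra.lift C D (Multiplicative M') φ) _).trans
        (congrArg (pts w' D) (MonoidHom.ext fun j => ?_)))
      show MonoidAlgebra.lift C D (Multiplicative M') φ (MonoidAlgebra.single j 1) = φ j
      exact (MonoidAlgebra.lift_single _ _ _).trans (one_smul _ _)
    rw [show L (MonoidAlgebra.single m 1) = χ m from DFunLike.congr_fun hL m]
    exact DFunLike.congr_fun (pts_injective w D
      (show pts w D ((MonoidAlgebra.lift C D (Multiplicative M') (ψ * ψ')).toRingHom.toMonoidHom.comp χ) =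
        pts w D (((MonoidAlgebra.lift C D (Multiplicative M') ψ).toRingHom.toMonoidHom.comp χ) *
          (MonoidAlgebra.lift C D (Multiplicative M') ψ').toRingHom.toMonoidHom.comp χ) by
        rw [pts_mul w, key, key, key, pts_mul])) m
  have h1 := IsPush.natural (B := C) (h.push C) (AlgHom.id R C) (L.restrictScalars R) (AlgHom.id R C)
    (fun b => L.commutes b) (int C M') (int_one C)
    (fun a => (Fam.int_comp_eq L (Function.LeftInverse.injective hinv) hmul a).symm)
  have h2 := Fam.diff_comp (famOf w u) (famOf w v) (L.restrictScalars B) (MonoidAlgebra.of C (Multiplicative M))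
  have h3 : Fam.diff (famOf w u) (famOf w v) A' χ = Fam.diff (famOf w' u) (famOf w' v) A' (MonoidAlgebra.of C _) := by
    show (pts w A' χ ≫ v) * (pts w A' χ ≫ u)⁻¹ = _
    rw [← hχ]
    rfl
  have h4 : pt (L.restrictScalars R) ≫ Fam.diff (famOf w u) (famOf w v) A (MonoidAlgebra.of C _) =
      Fam.diff (famOf w' u) (famOf w' v) A' (MonoidAlgebra.of C _) :=
    h2.trans ((congrArg (Fam.diff (famOf w u) (famOf w v) A') hL).trans h3)
  rw [h4, pt_id', Category.id_comp] at h1
  exact h1

end Pts

/-- An affine piece on which the group is split and the unit lies in an affine open. -/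
structure Piece (H G : Over (Spec (CommRingCat.of R))) [GrpObj H] [GrpObj G] where
  /-- the ring -/
  B : Type u
  [crB : CommRing B]
  [algB : Algebra R B]
  /-- the character group -/
  M : Type
  [agM : AddCommGroup M]
  /-- a scheme over which the group is split -/
  U : Scheme.{u}
  /-- its structure map -/
  g : U ⟶ Spec (CommRingCat.of R)
  /-- the splitting -/
  e : Grp.mk (Red.bc g H) ≅ Grp.mk (Red.DS U M)
  /-- the map to it -/
  j : Spec (CommRingCat.of B) ⟶ U
  hj : j ≫ g = (sp R B).hom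
  /-- the chart -/
  V : LChart G B

attribute [instance] Piece.crB Piece.algB Piece.agM

namespace Piece

variable (P : Piece H G) {J : Ideal R} (hJ : J ^ 2 = ⊥) {u v : H ⟶ G} [IsMonHom u] [IsMonHom v]

theorem exists_split (C : Type u) [CommRing C] [Algebra R C] (β : P.B →ₐ[R] C) :
    ∃ w : sp C (DA C P.M) ≅ Red.bc (sp R C).hom H, IsMonHom w.hom :=
  MultLift.exists_split_iso P.e (Spec.map (CommRingCat.ofHom β.toRingHom) ≫ P.j) (sp R C).hom (by
    rw [Category.assoc, P.hj]
    show Spec.map _ ≫ Spec.map _ = Spec.map (CommRingCat.ofHom (algebraMap R C))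
    rw [← Spec.map_comp, ← CommRingCat.ofHom_comp, show β.toRingHom.comp (algebraMap R P.B) = algebraMap R C from
      β.comp_algebraMap])

/-- The averaged difference on the piece. -/
def Good (J : Ideal R) (hJ : J ^ 2 = ⊥) (u v : H ⟶ G) [IsMonHom u] [IsMonHom v] (z : sp R P.B ⟶ G) : Prop :=
  ∃ (w : sp P.B (DA P.B P.M) ≅ Red.bc (sp R P.B).hom H) (_ : IsMonHom w.hom),
    Fam.IsAvg (famOf w u) (famOf w v) J hJ z

theorem exists_good (h : AgreeMod J u v) : ∃ z, P.Good J hJ u v z := by
  obtain ⟨w, hw⟩ := P.exists_split P.B (AlgHom.id R P.B)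
  haveI := hw
  obtain ⟨z, hz⟩ := Fam.exists_isAvg (hJ := hJ) P.V (eqMod_famOf w h)
  exact ⟨z, w, hw, hz⟩

variable {P hJ}

/-- The averaged differences of two pieces agree on common algebras. -/
theorem agree {Q : Piece H G} {z : sp R P.B ⟶ G} (hz : P.Good J hJ u v z) {z' : sp R Q.B ⟶ G}
    (hz' : Q.Good J hJ u v z') (C : Type u) [CommRing C] [Algebra R C] (β : P.B →ₐ[R] C) (β' : Q.B →ₐ[R] C) :
    pt β ≫ z = pt β' ≫ z' := by
  obtain ⟨w, hw, hz⟩ := hz
  obtain ⟨w', hw', hz'⟩ := hz'
  haveI := hw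
  haveI := hw'
  obtain ⟨wC, hwC⟩ := P.exists_split C β
  haveI := hwC
  have h1 : Fam.IsAvg (famOf wC u) (famOf wC v) J hJ (pt β ≫ z) := by
    letI : Algebra P.B C := β.toRingHom.toAlgebra
    haveI : IsScalarTower R P.B C := IsScalarTower.of_algebraMap_eq fun r => (β.commutes r).symm
    rw [show β = IsScalarTower.toAlgHom R P.B C from AlgHom.ext fun _ => rfl]
    exact isAvg_bc w C wC hz
  have h2 : Fam.IsAvg (famOf wC u) (famOf wC v) J hJ (pt β' ≫ z') := by
    letI : Algebra Q.B C := β'.toRingHom.toAlgebra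
    haveI : IsScalarTower R Q.B C := IsScalarTower.of_algebraMap_eq fun r => (β'.commutes r).symm
    rw [show β' = IsScalarTower.toAlgHom R Q.B C from AlgHom.ext fun _ => rfl]
    exact isAvg_bc w' C wC hz'
  exact h1.unique (P.V.map β) h2

theorem conj_eq (hmod : AgreeMod J u v) {z : sp R P.B ⟶ G} (hz : P.Good J hJ u v z) (C : Type u) [CommRing C]
    [Algebra R C] (β : P.B →ₐ[R] C) (h : sp R C ⟶ H) :
    h ≫ v = (pt β ≫ z) * (h ≫ u) * (pt β ≫ z)⁻¹ := by
  obtain ⟨w, hw, hz⟩ := hz
  haveI := hw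
  letI : Algebra P.B C := β.toRingHom.toAlgebra
  haveI : IsScalarTower R P.B C := IsScalarTower.of_algebraMap_eq fun r => (β.commutes r).symm
  obtain ⟨χ, rfl⟩ := pts_surjective w C h
  rw [show β = IsScalarTower.toAlgHom R P.B C from AlgHom.ext fun _ => rfl]
  exact hz.conj_eq P.V (eqMod_famOf w hmod) C χ

theorem comp_eq_one {z : sp R P.B ⟶ G} (hz : P.Good J hJ u v z) (C : Type u) [CommRing C]
    [Algebra R C] (β : P.B →ₐ[R] C) (hC : J ≤ RingHom.ker (algebraMap R C)) : pt β ≫ z = 1 := by
  obtain ⟨w, hw, hz⟩ := hz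
  haveI := hw
  let K : Ideal P.B := J.map (algebraMap R P.B)
  let β₀ : (P.B ⧸ K) →ₐ[R] C := Ideal.Quotient.liftₐ K β (fun a ha => by
    have : K ≤ RingHom.ker β.toRingHom := Ideal.map_le_iff_le_comap.2 fun r hr => by
      show β (algebraMap R P.B r) = 0
      rw [β.commutes]
      exact hC hr
    exact this ha)
  rw [show β = β₀.comp (Ideal.Quotient.mkₐ R K) from AlgHom.ext fun _ => rfl, pt_comp, Category.assoc, hz.congr_one,
    MonObj.comp_one]

end Piece

/-- The unit of the points is the structure map followed by the unit section. -/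
theorem one_left' {Y : Over (Spec (CommRingCat.of R))} :
    (1 : Y ⟶ G).left = Y.hom ≫ (η[G] : 𝟙_ (Over (Spec (CommRingCat.of R))) ⟶ G).left := by
  have ht : (toUnit Y).left = Y.hom := (Category.comp_id _).symm.trans (Over.w (toUnit Y))
  rw [← ht]
  rfl

/-- The averaged differences on two pieces agree along maps to them over the base. -/
theorem agree_hom {P Q : Piece H G} {J : Ideal R} {hJ : J ^ 2 = ⊥} {u v : H ⟶ G} [IsMonHom u] [IsMonHom v]
    {z : sp R P.B ⟶ G} (hz : P.Good J hJ u v z) {z' : sp R Q.B ⟶ G} (hz' : Q.Good J hJ u v z') {C : Type u}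
    [CommRing C] (a : Spec (CommRingCat.of C) ⟶ Spec (CommRingCat.of P.B))
    (b : Spec (CommRingCat.of C) ⟶ Spec (CommRingCat.of Q.B)) (hab : a ≫ (sp R P.B).hom = b ≫ (sp R Q.B).hom) :
    a ≫ z.left = b ≫ z'.left := by
  obtain ⟨φ, hφ⟩ := Spec.map_surjective (a ≫ (sp R P.B).hom)
  letI : Algebra R C := φ.hom.toAlgebra
  have hC : (sp R C).hom = a ≫ (sp R P.B).hom := by
    show Spec.map (CommRingCat.ofHom φ.hom) = _
    rw [CommRingCat.ofHom_hom, hφ]
  obtain ⟨β, hβ⟩ := DiagRep.exists_pt (Over.homMk a hC.symm : sp R C ⟶ sp R P.B)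
  obtain ⟨β', hβ'⟩ := DiagRep.exists_pt (Over.homMk b (hC.trans hab).symm : sp R C ⟶ sp R Q.B)
  have h := congrArg CommaMorphism.left (Piece.agree hz hz' C β β')
  rw [← hβ, ← hβ'] at h
  exact h

/-- Morphisms out of a scheme over the base are equal when they are so on points over algebras over the pieces of
an fpqc cover. -/
theorem eq_of_cover {S' : Scheme.{u}} (f : S' ⟶ Spec (CommRingCat.of R)) [Flat f] [Surjective f]
    (𝒰 : S'.OpenCover) (B : 𝒰.I₀ → Type u) [∀ x, CommRing (B x)] [∀ x, Algebra R (B x)]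
    (e : ∀ x, 𝒰.X x ⟶ Spec (CommRingCat.of (B x))) (he : ∀ x, 𝒰.f x ≫ f = e x ≫ (sp R (B x)).hom)
    {Y : Over (Spec (CommRingCat.of R))} (a b : Y ⟶ G)
    (h : ∀ (x : 𝒰.I₀) (C : Type u) [CommRing C] [Algebra R C] (_ : B x →ₐ[R] C) (y : sp R C ⟶ Y), y ≫ a = y ≫ b) :
    a = b := by
  refine Over.OverMorphism.ext ?_
  haveI : Epi (pullback.fst Y.hom f) := Flat.epi_of_flat_of_surjective _
  refine (cancel_epi (pullback.fst Y.hom f)).1 ?_
  refine Scheme.Cover.hom_ext (Scheme.Pullback.openCoverOfRight 𝒰 Y.hom f) _ _ fun x => ?_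
  simp only [Scheme.Pullback.openCoverOfRight_f, pullback.map, pullback.lift_fst_assoc, Category.assoc,
    Category.comp_id]
  let Z := pullback Y.hom (𝒰.f x ≫ f)
  refine Scheme.Cover.hom_ext Z.affineCover _ _ fun k => ?_
  haveI : IsAffine (Z.affineCover.X k) := inferInstance
  refine (cancel_epi (Z.affineCover.X k).isoSpec.inv).1 ?_
  let C : Type u := Γ(Z.affineCover.X k, ⊤)
  let c : Spec (CommRingCat.of C) ⟶ Z := (Z.affineCover.X k).isoSpec.inv ≫ Z.affineCover.f k
  obtain ⟨φ, hφ⟩ := Spec.map_surjective ((c ≫ pullback.fst _ _) ≫ Y.hom)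
  letI : Algebra R C := φ.hom.toAlgebra
  have hC : (sp R C).hom = (c ≫ pullback.fst _ _) ≫ Y.hom := by
    show Spec.map (CommRingCat.ofHom φ.hom) = _
    rw [CommRingCat.ofHom_hom, hφ]
  have hcond : (c ≫ pullback.snd _ _ ≫ e x) ≫ (sp R (B x)).hom = (c ≫ pullback.fst _ _) ≫ Y.hom := by
    simp only [Category.assoc]
    rw [← he x, pullback.condition]
  obtain ⟨β, -⟩ := DiagRep.exists_pt
    (Over.homMk (c ≫ pullback.snd _ _ ≫ e x) (hcond.trans hC.symm) : sp R C ⟶ sp R (B x))
  have h' := congrArg CommaMorphism.left (h x C β (Over.homMk (c ≫ pullback.fst _ _) hC.symm))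
  simp only [Over.comp_left, Over.homMk_left, c, Category.assoc] at h'
  simpa only [Category.assoc] using h'

/-- Homomorphisms agreeing modulo a square-zero ideal are conjugate by a point congruent to the unit. -/
theorem exists_conj {J : Ideal R} (hJ : J ^ 2 = ⊥)
    (hH : TwC.Locally (Spec (CommRingCat.of R)) TwC.Topology.fpqc (fun S' f => ∃ (M : Type) (_ : AddCommGroup M),
      Nonempty (Grp.mk (Red.bc f H) ≅ Grp.mk (Red.DS S' M))))
    (u v : H ⟶ G) [IsMonHom u] [IsMonHom v] (h0 : AgreeMod J u v) :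
    ∃ g : 𝟙_ (Over (Spec (CommRingCat.of R))) ⟶ G,
      toUnit (Over.mk (Spec.map (CommRingCat.ofHom (Ideal.Quotient.mk J))) : Over (Spec (CommRingCat.of R))) ≫ g = 1 ∧
        ∀ (X : Over (Spec (CommRingCat.of R))) (h : X ⟶ H),
          h ≫ v = (toUnit X ≫ g) * (h ≫ u) * (toUnit X ≫ g)⁻¹ := by
  obtain ⟨S', f, hflat, hsurj, hcov, hloc⟩ := hH
  haveI := hflat
  haveI := hsurj
  have hex : ∀ x : S', ∃ (P : Piece H G) (ι' : Spec (CommRingCat.of P.B) ⟶ S'),
      IsOpenImmersion ι' ∧ x ∈ Set.range ι' ∧ ι' ≫ f = (sp R P.B).hom := by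
    intro x
    obtain ⟨U, hxU, M, _, ⟨e⟩⟩ := hloc x
    let ηl := (η[G] : 𝟙_ (Over (Spec (CommRingCat.of R))) ⟶ G).left
    obtain ⟨V, hV, hxV, -⟩ := exists_isAffineOpen_mem_and_subset (X := G.left) (x := ηl (f x)) (U := ⊤) trivial
    obtain ⟨T, hT, hxT, hTU⟩ := exists_isAffineOpen_mem_and_subset (X := S') (x := x) (U := U ⊓ (f ≫ ηl) ⁻¹ᵁ V)
      ⟨hxU, hxV⟩
    haveI : IsAffine (T : Scheme.{u}) := hT
    let B : Type u := Γ((T : Scheme.{u}), ⊤)
    let i : Spec (CommRingCat.of B) ⟶ (T : Scheme.{u}) := (T : Scheme.{u}).isoSpec.inv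
    obtain ⟨φ, hφ⟩ := Spec.map_surjective (i ≫ T.ι ≫ f)
    letI : Algebra R B := φ.hom.toAlgebra
    have hp : (sp R B).hom = i ≫ T.ι ≫ f := by
      show Spec.map (CommRingCat.ofHom φ.hom) = _
      rw [CommRingCat.ofHom_hom, hφ]
    obtain ⟨φ', hφ'⟩ := Spec.map_surjective (hV.fromSpec ≫ G.hom)
    letI : Algebra R Γ(G.left, V) := φ'.hom.toAlgebra
    let jV : sp R Γ(G.left, V) ⟶ G := Over.homMk hV.fromSpec (by
      show hV.fromSpec ≫ G.hom = Spec.map (CommRingCat.ofHom φ'.hom)
      rw [CommRingCat.ofHom_hom, hφ'])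
    haveI : IsOpenImmersion jV.left := IsAffineOpen.isOpenImmersion_fromSpec hV
    let e₁ : sp R B ⟶ G := 1
    have hsub : Set.range e₁.left ⊆ Set.range jV.left := by
      rintro _ ⟨t, rfl⟩
      show e₁.left t ∈ Set.range hV.fromSpec
      rw [hV.range_fromSpec, show e₁.left = (i ≫ T.ι ≫ f) ≫ ηl from one_left'.trans (congrArg (· ≫ ηl) hp)]
      exact (hTU (i t).2).2
    let l := IsOpenImmersion.lift jV.left e₁.left hsub
    have hl : l ≫ jV.left = e₁.left := IsOpenImmersion.lift_fac _ _ _
    let y : sp R B ⟶ sp R Γ(G.left, V) := Over.homMk l (by rw [← Over.w jV, ← Category.assoc, hl, Over.w])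
    obtain ⟨L, hL⟩ := DiagRep.exists_pt y
    refine ⟨{ B := B, M := M, U := U, g := U.ι ≫ f, e := e, j := i ≫ S'.homOfLE (hTU.trans inf_le_left),
              hj := by rw [Category.assoc, Scheme.homOfLE_ι_assoc, hp],
              V := { ring := Γ(G.left, V), hom := jV, isOpen := inferInstance, one := L,
                     pt_one := by rw [← hL]; exact Over.OverMorphism.ext hl } }, i ≫ T.ι, ?_, ?_, ?_⟩
    · show IsOpenImmersion ((T : Scheme.{u}).isoSpec.inv ≫ T.ι)
      infer_instance
    · obtain ⟨a, ha⟩ := (T : Scheme.{u}).isoSpec.inv.surjective ⟨x, hxT⟩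
      refine ⟨a, ?_⟩
      show T.ι (i a) = x
      exact (congrArg T.ι ha).trans rfl
    · exact (Category.assoc _ _ _).trans hp.symm
  choose P ι' hι hmem hιf using hex
  choose z hz using fun x => (P x).exists_good hJ h0
  let 𝒰 : S'.OpenCover := Scheme.Cover.mkOfCovers S' (fun x : S' => Spec (CommRingCat.of (P x).B)) ι'
    (fun x => let ⟨a, ha⟩ := hmem x; ⟨x, a, ha⟩) fun x => hι x
  let G' : Scheme.{u} := G.left
  -- the local points agree
  have hagree : ∀ (Q : Scheme.{u}) (x y : S') (a : Q ⟶ Spec (CommRingCat.of (P x).B))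
      (b : Q ⟶ Spec (CommRingCat.of (P y).B)), (a ≫ ι' x) ≫ f = (b ≫ ι' y) ≫ f →
      a ≫ (z x).left = b ≫ (z y).left := by
    intro Q x y a b hab
    refine Scheme.Cover.hom_ext Q.affineCover _ _ fun k => ?_
    haveI : IsAffine (Q.affineCover.X k) := inferInstance
    let c : Spec (CommRingCat.of Γ(Q.affineCover.X k, ⊤)) ⟶ Q :=
      (Q.affineCover.X k).isoSpec.inv ≫ Q.affineCover.f k
    have hc : (c ≫ a) ≫ (sp R (P x).B).hom = (c ≫ b) ≫ (sp R (P y).B).hom := by
      rw [← hιf x, ← hιf y]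
      simp only [Category.assoc] at hab ⊢
      rw [hab]
    have := agree_hom (hz x) (hz y) (c ≫ a) (c ≫ b) hc
    simp only [c, Category.assoc] at this
    exact (cancel_epi _).1 this
  let g' : S' ⟶ G' := Scheme.Cover.glueMorphisms 𝒰 (fun x => (z x).left) fun x y =>
    hagree (pullback (ι' x) (ι' y)) x y (pullback.fst _ _) (pullback.snd _ _) (by rw [pullback.condition])
  have hg' : ∀ x, ι' x ≫ g' = (z x).left := fun x => Scheme.Cover.ι_glueMorphisms 𝒰 _ _ x
  have hg'G : g' ≫ G.hom = f := Scheme.Cover.hom_ext 𝒰 _ _ fun x => by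
    show ι' x ≫ g' ≫ G.hom = ι' x ≫ f
    rw [← Category.assoc, hg' x, hιf x]
    exact Over.w (z x)
  have hsym : pullback.fst f f ≫ g' = pullback.snd f f ≫ g' :=
    Scheme.Cover.hom_ext (Scheme.Pullback.openCoverOfLeftRight 𝒰 𝒰 f f) _ _ fun k => by
      obtain ⟨x, y⟩ := k
      simp only [Scheme.Pullback.openCoverOfLeftRight_f, pullback.map, pullback.lift_fst_assoc,
        pullback.lift_snd_assoc, Category.assoc]
      erw [hg', hg']
      exact hagree _ x y _ _ (((Category.assoc _ _ _).trans pullback.condition).trans (Category.assoc _ _ _).symm)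
  haveI : EffectiveEpi f := by
    rw [← Sieve.effectiveEpimorphic_singleton, Presieve.EffectiveEpimorphic.iff_forall_isSheafFor_yoneda]
    intro W
    exact (GrothendieckTopology.Subcanonical.isSheaf_of_isRepresentable _).isSheafFor _
      (Precoverage.generate_mem_toGrothendieck (DescHom.singleton_mem_fpqc f hcov))
  let gl : Spec (CommRingCat.of R) ⟶ G' := EffectiveEpi.desc f g' fun g₁ g₂ h => by
    rw [← pullback.lift_fst_assoc g₁ g₂ h g', hsym, pullback.lift_snd_assoc]
  have hgl : f ≫ gl = g' := EffectiveEpi.fac f g' _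
  let g : 𝟙_ (Over (Spec (CommRingCat.of R))) ⟶ G := Over.homMk gl (by
    show gl ≫ G.hom = 𝟙 _
    rw [← cancel_epi f, ← Category.assoc, hgl, hg'G, Category.comp_id])
  have hres : ∀ (x : S') (C : Type u) [CommRing C] [Algebra R C] (β : (P x).B →ₐ[R] C),
      toUnit (sp R C) ≫ g = pt β ≫ z x := by
    intro x C _ _ β
    refine Over.OverMorphism.ext ?_
    have ht : (toUnit (sp R C)).left = (sp R C).hom := (Category.comp_id _).symm.trans (Over.w (toUnit (sp R C)))
    show (toUnit (sp R C)).left ≫ gl = (pt β).left ≫ (z x).left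
    rw [ht, ← Over.w (pt β), ← hιf x, Category.assoc, Category.assoc, hgl, hg' x]
  refine ⟨g, ?_, ?_⟩
  · refine eq_of_cover f 𝒰 (fun x => (P x).B) (fun x => 𝟙 _) (fun x => hιf x) _ _ fun x C _ _ β y => ?_
    rw [← Category.assoc, toUnit_unique (y ≫ toUnit _) (toUnit _), hres x C β, MonObj.comp_one]
    refine Piece.comp_eq_one (hz x) C β fun r hr => ?_
    obtain ⟨ψ, hψ⟩ := Spec.map_surjective y.left
    have hw : CommRingCat.ofHom (Ideal.Quotient.mk J) ≫ ψ = CommRingCat.ofHom (algebraMap R C) := by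
      apply Spec.map_injective
      rw [Spec.map_comp, hψ]
      exact Over.w y
    have : algebraMap R C r = ψ.hom (Ideal.Quotient.mk J r) := (ConcreteCategory.congr_hom hw r).symm
    rw [RingHom.mem_ker, this, Ideal.Quotient.eq_zero_iff_mem.2 hr, map_zero]
  · have key : v = (toUnit H ≫ g) * u * (toUnit H ≫ g)⁻¹ := by
      refine eq_of_cover f 𝒰 (fun x => (P x).B) (fun x => 𝟙 _) (fun x => hιf x) _ _ fun x C _ _ β y => ?_
      rw [MonObj.comp_mul, MonObj.comp_mul, GrpObj.comp_inv, ← Category.assoc,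
        toUnit_unique (y ≫ toUnit _) (toUnit _), hres x C β]
      exact Piece.conj_eq h0 (hz x) C β y
    intro X h
    conv_lhs => rw [key]
    rw [MonObj.comp_mul, MonObj.comp_mul, GrpObj.comp_inv, ← Category.assoc,
      toUnit_unique (h ≫ toUnit _) (toUnit _)]

end Groth.Agent.ConjAvg
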