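import Groth.Agent.DiagRepLib.Scheme

/-!
Pushing points congruent to the unit modulo a square-zero ideal along linear maps.
-/

set_option autoImplicit false
set_option backward.isDefEq.respectTransparency false

noncomputable section

universe u

open CategoryTheory CategoryTheory.Limits MonoidalCategory CartesianMonoidalCategory AlgebraicGeometry CoactBr
open scoped MonObj TensorProduct

namespace Groth.Agent.ConjAvg

attribute [local instance] CoactBr.braidedAlgSpecOf

variable {R : Type u} [CommRing R] {G : Over (Spec (CommRingCat.of R))} [GrpObj G]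

/-- An affine open through which the unit with values in `B` factors. -/
structure LChart (G : Over (Spec (CommRingCat.of R))) [GrpObj G] (B : Type u) [CommRing B] [Algebra R B] where
  /-- the coordinate ring -/
  ring : Type u
  [cr : CommRing ring]
  [alg : Algebra R ring]
  /-- the inclusion -/
  hom : sp R ring ⟶ G
  isOpen : IsOpenImmersion hom.left
  /-- the unit -/
  one : ring →ₐ[R] B
  pt_one : pt one ≫ hom = 1

attribute [instance] LChart.cr LChart.alg LChart.isOpen

/-- A chart over an algebra restricts to its algebras. -/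
def LChart.map {B : Type u} [CommRing B] [Algebra R B] (V : LChart G B) {C : Type u} [CommRing C] [Algebra R C]
    (β : B →ₐ[R] C) : LChart G C where
  ring := V.ring
  hom := V.hom
  isOpen := V.isOpen
  one := β.comp V.one
  pt_one := by rw [pt_comp, Category.assoc, V.pt_one, MonObj.comp_one]

theorem LChart.hom_injective {B : Type u} [CommRing B] [Algebra R B] (V : LChart G B) {C : Type u} [CommRing C]
    [Algebra R C] {L L' : V.ring →ₐ[R] C} (h : pt L ≫ V.hom = pt L' ≫ V.hom) : L = L' := by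
  haveI : Mono V.hom := Over.mono_of_mono_left _
  exact pt_injective ((cancel_mono V.hom).1 h)

/-- A point which is the unit modulo a nilpotent ideal lies in the chart. -/
theorem LChart.exists_factor {B : Type u} [CommRing B] [Algebra R B] (V : LChart G B) {A A' : Type u} [CommRing A]
    [Algebra R A] [CommRing A'] [Algebra R A'] (π : A →ₐ[R] A') (ι' : B →ₐ[R] A')
    (hπ : Function.Surjective π) (hnil : IsNilpotent (RingHom.ker π.toRingHom)) (x : sp R A ⟶ G)
    (hx : pt π ≫ x = 1) : ∃ L : V.ring →ₐ[R] A, pt L ≫ V.hom = x ∧ π.comp L = ι'.comp V.one := by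
  have h1' : pt (ι'.comp V.one) ≫ V.hom = 1 := by rw [pt_comp, Category.assoc, V.pt_one, MonObj.comp_one]
  have hsub : Set.range x.left ⊆ Set.range V.hom.left := by
    rintro _ ⟨t, rfl⟩
    obtain ⟨n, hn⟩ := hnil
    have ht : t ∈ Set.range (PrimeSpectrum.comap π.toRingHom) := by
      refine (Set.ext_iff.1 (range_comap_of_surjective _ π.toRingHom hπ) t).2
        ((PrimeSpectrum.mem_zeroLocus _ _).2 ?_)
      intro a ha
      have : a ^ n = 0 := by
        have := Ideal.pow_mem_pow (show a ∈ RingHom.ker π.toRingHom from ha) n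
        rwa [hn] at this
      exact t.isPrime.mem_of_pow_mem n (this ▸ zero_mem _)
    obtain ⟨t', ht'⟩ := ht
    have h1 : x.left t = (pt π ≫ x).left t' := by
      rw [← ht']
      rfl
    rw [h1, hx, ← h1']
    exact ⟨_, rfl⟩
  let l := IsOpenImmersion.lift V.hom.left x.left hsub
  have hl : l ≫ V.hom.left = x.left := IsOpenImmersion.lift_fac _ _ _
  let y : sp R A ⟶ sp R V.ring := Over.homMk l (by
    show l ≫ (sp R V.ring).hom = _
    rw [← Over.w V.hom, ← Category.assoc, hl, Over.w])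
  obtain ⟨L, hL⟩ := DiagRep.exists_pt y
  have hLx : pt L ≫ V.hom = x := by
    rw [← hL]
    exact Over.OverMorphism.ext hl
  refine ⟨L, hLx, V.hom_injective ?_⟩
  rw [pt_comp, Category.assoc, hLx, hx, h1']

section Pairs

variable (J : Ideal R) (B : Type u) [CommRing B] [Algebra R B] (B' : Type u) [CommRing B'] [Algebra R B']
  [Algebra B B'] [IsScalarTower R B B']

/-- Pairs congruent modulo the ideal. -/
def pairs : Subalgebra R (B × B') where
  carrier := {v | v.2 - algebraMap B B' v.1 ∈ J.map (algebraMap R B')}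
  mul_mem' {v w} hv hw := by
    have : (v * w).2 - algebraMap B B' (v * w).1 =
        (v.2 - algebraMap B B' v.1) * w.2 + algebraMap B B' v.1 * (w.2 - algebraMap B B' w.1) := by
      simp only [Prod.fst_mul, Prod.snd_mul, map_mul]; ring
    show _ ∈ J.map (algebraMap R B')
    rw [this]
    exact add_mem (Ideal.mul_mem_right _ _ hv) (Ideal.mul_mem_left _ _ hw)
  add_mem' {v w} hv hw := by
    have : (v + w).2 - algebraMap B B' (v + w).1 =
        (v.2 - algebraMap B B' v.1) + (w.2 - algebraMap B B' w.1) := by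
      simp only [Prod.fst_add, Prod.snd_add, map_add]; ring
    show _ ∈ J.map (algebraMap R B')
    rw [this]
    exact add_mem hv hw
  algebraMap_mem' r := by simp [← IsScalarTower.algebraMap_apply]

/-- The first projection. -/
def p₁ : pairs J B B' →ₐ[R] B := (AlgHom.fst R B B').comp (pairs J B B').val

/-- The second projection. -/
def p₂ : pairs J B B' →ₐ[R] B' := (AlgHom.snd R B B').comp (pairs J B B').val

/-- The constant pairs. -/
def diag : B →ₐ[R] pairs J B B' :=
  ((AlgHom.id R B).prod (IsScalarTower.toAlgHom R B B')).codRestrict (pairs J B B') fun b => by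
    show algebraMap B B' b - algebraMap B B' b ∈ J.map (algebraMap R B')
    simp

variable {J B B'}

theorem mul_eq_zero' (hJ : J ^ 2 = ⊥) {a b : B'} (ha : a ∈ J.map (algebraMap R B'))
    (hb : b ∈ J.map (algebraMap R B')) : a * b = 0 := by
  have h := Ideal.mul_mem_mul ha hb
  rwa [← Ideal.map_mul, ← pow_two, hJ, Ideal.map_bot, Submodule.mem_bot] at h

theorem isNilpotent_ker_p₁ (hJ : J ^ 2 = ⊥) : IsNilpotent (RingHom.ker (p₁ J B B').toRingHom) := by
  refine ⟨2, le_bot_iff.1 ?_⟩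
  rw [pow_two, Ideal.mul_le]
  intro v hv w hw
  have hv₁ : v.1.1 = 0 := hv
  have hw₁ : w.1.1 = 0 := hw
  have a1 : v.1.2 ∈ J.map (algebraMap R B') := by simpa [hv₁] using (show _ ∈ J.map (algebraMap R B') from v.2)
  have b1 : w.1.2 ∈ J.map (algebraMap R B') := by simpa [hw₁] using (show _ ∈ J.map (algebraMap R B') from w.2)
  exact (Submodule.mem_bot _).2 (Subtype.ext (Prod.ext (by simp [hv₁]) (mul_eq_zero' hJ a1 b1)))

theorem surjective_p₁ : Function.Surjective (p₁ J B B') := fun b => ⟨diag J B B' b, rfl⟩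

/-- The lift of a point congruent to the unit. -/
def IsHat (x : sp R B' ⟶ G) (y : sp R (pairs J B B') ⟶ G) : Prop :=
  pt (p₁ J B B') ≫ y = 1 ∧ pt (p₂ J B B') ≫ y = x

theorem exists_isHat (V : LChart G B) (hJ : J ^ 2 = ⊥) (x : sp R B' ⟶ G)
    (hx : pt (Ideal.Quotient.mkₐ R (J.map (algebraMap R B'))) ≫ x = 1) :
    ∃ y, IsHat (J := J) (B := B) x y := by
  have hker : RingHom.ker (Ideal.Quotient.mkₐ R (J.map (algebraMap R B'))).toRingHom = J.map (algebraMap R B') :=
    Ideal.Quotient.mkₐ_ker R _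
  obtain ⟨L, hL, hL'⟩ := V.exists_factor (Ideal.Quotient.mkₐ R (J.map (algebraMap R B')))
    ((Ideal.Quotient.mkₐ R (J.map (algebraMap R B'))).comp (IsScalarTower.toAlgHom R B B'))
    Ideal.Quotient.mk_surjective ⟨2, by rw [hker, ← Ideal.map_pow, hJ, Ideal.map_bot]; rfl⟩ x hx
  let Y : V.ring →ₐ[R] pairs J B B' := (V.one.prod L).codRestrict (pairs J B B') fun b => by
    show L b - algebraMap B B' (V.one b) ∈ J.map (algebraMap R B')
    rw [← Ideal.Quotient.eq]
    exact DFunLike.congr_fun hL' b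
  refine ⟨pt Y ≫ V.hom, ?_, ?_⟩
  · rw [← Category.assoc, ← pt_comp, show (p₁ J B B').comp Y = V.one from AlgHom.ext fun b => rfl, V.pt_one]
  · rw [← Category.assoc, ← pt_comp, show (p₂ J B B').comp Y = L from AlgHom.ext fun b => rfl, hL]

theorem IsHat.unique (V : LChart G B) (hJ : J ^ 2 = ⊥) {x : sp R B' ⟶ G} {y y' : sp R (pairs J B B') ⟶ G}
    (h : IsHat x y) (h' : IsHat x y') : y = y' := by
  obtain ⟨Y, hY, hY₁⟩ := V.exists_factor (p₁ J B B') (AlgHom.id R B) surjective_p₁ (isNilpotent_ker_p₁ hJ) y h.1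
  obtain ⟨Y', hY', hY₁'⟩ := V.exists_factor (p₁ J B B') (AlgHom.id R B) surjective_p₁ (isNilpotent_ker_p₁ hJ) y' h'.1
  have h2 : (p₂ J B B').comp Y = (p₂ J B B').comp Y' := V.hom_injective (by
    rw [pt_comp, Category.assoc, hY, h.2, pt_comp, Category.assoc, hY', h'.2])
  rw [← hY, ← hY', show Y = Y' from AlgHom.ext fun b => Subtype.ext
    (Prod.ext ((DFunLike.congr_fun hY₁ b).trans (DFunLike.congr_fun hY₁' b).symm) (DFunLike.congr_fun h2 b))]

theorem IsHat.mul {x x' : sp R B' ⟶ G} {y y' : sp R (pairs J B B') ⟶ G} (h : IsHat x y) (h' : IsHat x' y') :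
    IsHat (x * x') (y * y') :=
  ⟨by rw [MonObj.comp_mul, h.1, h'.1, one_mul], by rw [MonObj.comp_mul, h.2, h'.2]⟩

variable {B'' : Type u} [CommRing B''] [Algebra R B''] [Algebra B B''] [IsScalarTower R B B'']

theorem map_mem (ℓ : B' →ₗ[B] B'') {a : B'} (ha : a ∈ J.map (algebraMap R B')) :
    ℓ a ∈ J.map (algebraMap R B'') := by
  have h1 : a ∈ J • (⊤ : Submodule R B') := by
    rw [Ideal.smul_top_eq_map]
    exact ha
  refine Submodule.smul_induction_on h1 (fun r hr y _ => ?_) (fun y z hy hz => ?_)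
  · rw [LinearMap.map_smul_of_tower, Algebra.smul_def]
    exact Ideal.mul_mem_right _ _ (Ideal.mem_map_of_mem _ hr)
  · rw [map_add]
    exact add_mem hy hz

/-- The ring map induced by a linear map. -/
def q (hJ : J ^ 2 = ⊥) (ℓ : B' →ₗ[B] B'') (h1 : ℓ 1 = 1) : pairs J B B' →ₐ[R] B'' :=
  AlgHom.ofLinearMap ((ℓ.restrictScalars R).comp (p₂ J B B').toLinearMap) (by
    show ℓ (p₂ J B B' 1) = 1
    rw [map_one, h1]) (fun v w => by
    show ℓ (v.1.2 * w.1.2) = ℓ v.1.2 * ℓ w.1.2
    obtain ⟨n, hn, hv⟩ : ∃ n ∈ J.map (algebraMap R B'), v.1.2 = v.1.1 • (1 : B') + n :=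
      ⟨_, v.2, by rw [← Algebra.algebraMap_eq_smul_one]; ring⟩
    obtain ⟨m, hm, hw⟩ : ∃ m ∈ J.map (algebraMap R B'), w.1.2 = w.1.1 • (1 : B') + m :=
      ⟨_, w.2, by rw [← Algebra.algebraMap_eq_smul_one]; ring⟩
    rw [hv, hw]
    simp only [mul_add, add_mul, smul_mul_assoc, mul_smul_comm, one_mul, mul_one, map_add, map_smul, h1,
      mul_eq_zero' hJ hn hm, mul_eq_zero' hJ (map_mem ℓ hn) (map_mem ℓ hm), map_zero, smul_add, smul_smul])

/-- The pushforward of a point congruent to the unit along a linear map. -/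
def IsPush (J : Ideal R) (hJ : J ^ 2 = ⊥) (ℓ : B' →ₗ[B] B'') (h1 : ℓ 1 = 1) (x : sp R B' ⟶ G)
    (z : sp R B'' ⟶ G) : Prop :=
  ∃ y : sp R (pairs J B B') ⟶ G, IsHat x y ∧ pt (q hJ ℓ h1) ≫ y = z

variable {hJ : J ^ 2 = ⊥} {ℓ : B' →ₗ[B] B''} {h1 : ℓ 1 = 1}

theorem exists_isPush (V : LChart G B) (x : sp R B' ⟶ G)
    (hx : pt (Ideal.Quotient.mkₐ R (J.map (algebraMap R B'))) ≫ x = 1) : ∃ z, IsPush J hJ ℓ h1 x z := by
  obtain ⟨y, hy⟩ := exists_isHat V hJ x hx
  exact ⟨_, y, hy, rfl⟩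

theorem IsPush.unique (V : LChart G B) {x : sp R B' ⟶ G} {z z' : sp R B'' ⟶ G} (h : IsPush J hJ ℓ h1 x z)
    (h' : IsPush J hJ ℓ h1 x z') : z = z' := by
  obtain ⟨y, hy, rfl⟩ := h
  obtain ⟨y', hy', rfl⟩ := h'
  rw [hy.unique V hJ hy']

theorem IsPush.mul {x x' : sp R B' ⟶ G} {z z' : sp R B'' ⟶ G} (h : IsPush J hJ ℓ h1 x z)
    (h' : IsPush J hJ ℓ h1 x' z') : IsPush J hJ ℓ h1 (x * x') (z * z') := by
  obtain ⟨y, hy, rfl⟩ := h
  obtain ⟨y', hy', rfl⟩ := h'
  exact ⟨y * y', hy.mul hy', MonObj.comp_mul _ _ _⟩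

theorem IsPush.conj {x : sp R B' ⟶ G} {z : sp R B'' ⟶ G} (h : IsPush J hJ ℓ h1 x z) (c : sp R B ⟶ G) :
    IsPush J hJ ℓ h1 ((pt (IsScalarTower.toAlgHom R B B') ≫ c) * x * (pt (IsScalarTower.toAlgHom R B B') ≫ c)⁻¹)
      ((pt (IsScalarTower.toAlgHom R B B'') ≫ c) * z * (pt (IsScalarTower.toAlgHom R B B'') ≫ c)⁻¹) := by
  obtain ⟨y, hy, rfl⟩ := h
  refine ⟨(pt (diag J B B') ≫ c) * y * (pt (diag J B B') ≫ c)⁻¹, ⟨?_, ?_⟩, ?_⟩
  · simp only [MonObj.comp_mul, GrpObj.comp_inv, hy.1, mul_one, mul_inv_cancel]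
  · simp only [MonObj.comp_mul, GrpObj.comp_inv, hy.2]
    rw [← Category.assoc, ← pt_comp, show (p₂ J B B').comp (diag J B B') = IsScalarTower.toAlgHom R B B' from rfl]
  · simp only [MonObj.comp_mul, GrpObj.comp_inv]
    rw [← Category.assoc, ← pt_comp, show (q hJ ℓ h1).comp (diag J B B') = IsScalarTower.toAlgHom R B B'' from
      AlgHom.ext fun b => by
        show ℓ (algebraMap B B' b) = algebraMap B B'' b
        rw [Algebra.algebraMap_eq_smul_one, map_smul, h1, Algebra.algebraMap_eq_smul_one]]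

/-- A pushforward is congruent to the unit. -/
theorem IsPush.congr_one {x : sp R B' ⟶ G} {z : sp R B'' ⟶ G} (h : IsPush J hJ ℓ h1 x z) :
    pt (Ideal.Quotient.mkₐ R (J.map (algebraMap R B''))) ≫ z = 1 := by
  obtain ⟨y, hy, rfl⟩ := h
  have e : (Ideal.Quotient.mkₐ R (J.map (algebraMap R B''))).comp (q hJ ℓ h1) =
      ((Ideal.Quotient.mkₐ R (J.map (algebraMap R B''))).comp (IsScalarTower.toAlgHom R B B'')).comp (p₁ J B B') := by
    refine AlgHom.ext fun v => Ideal.Quotient.eq.2 ?_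
    show ℓ v.1.2 - algebraMap B B'' v.1.1 ∈ _
    have : ℓ v.1.2 - algebraMap B B'' v.1.1 = ℓ (v.1.2 - algebraMap B B' v.1.1) := by
      rw [map_sub, Algebra.algebraMap_eq_smul_one (A := B'), map_smul, h1, Algebra.algebraMap_eq_smul_one]
    rw [this]
    exact map_mem ℓ v.2
  rw [← Category.assoc, ← pt_comp, e, pt_comp, Category.assoc, hy.1, MonObj.comp_one]

/-- Pushforwards are natural. -/
theorem IsPush.natural {x : sp R B' ⟶ G} {z : sp R B'' ⟶ G} (h : IsPush J hJ ℓ h1 x z) {C : Type u} [CommRing C]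
    [Algebra R C] {C' : Type u} [CommRing C'] [Algebra R C'] [Algebra C C'] [IsScalarTower R C C'] {C'' : Type u}
    [CommRing C''] [Algebra R C''] [Algebra C C''] [IsScalarTower R C C''] (β : B →ₐ[R] C) (β' : B' →ₐ[R] C')
    (β'' : B'' →ₐ[R] C'') (hβ : ∀ b, β' (algebraMap B B' b) = algebraMap C C' (β b)) (ℓ' : C' →ₗ[C] C'')
    (h1' : ℓ' 1 = 1) (hℓ : ∀ a, β'' (ℓ a) = ℓ' (β' a)) :
    IsPush J hJ ℓ' h1' (pt β' ≫ x) (pt β'' ≫ z) := by
  obtain ⟨y, hy, rfl⟩ := h
  let m : pairs J B B' →ₐ[R] pairs J C C' :=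
    ((β.comp (p₁ J B B')).prod (β'.comp (p₂ J B B'))).codRestrict (pairs J C C') fun v => by
      show β' v.1.2 - algebraMap C C' (β v.1.1) ∈ J.map (algebraMap R C')
      rw [← hβ, ← map_sub]
      have := Ideal.mem_map_of_mem β'.toRingHom (show _ ∈ J.map (algebraMap R B') from v.2)
      rw [Ideal.map_map, show β'.toRingHom.comp (algebraMap R B') = algebraMap R C' from β'.comp_algebraMap] at this
      exact this
  refine ⟨pt m ≫ y, ⟨?_, ?_⟩, ?_⟩
  · rw [← Category.assoc, ← pt_comp, show (p₁ J C C').comp m = β.comp (p₁ J B B') from rfl, pt_comp, Category.assoc,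
      hy.1, MonObj.comp_one]
  · rw [← Category.assoc, ← pt_comp, show (p₂ J C C').comp m = β'.comp (p₂ J B B') from rfl, pt_comp, Category.assoc,
      hy.2]
  · rw [← Category.assoc, ← pt_comp, ← Category.assoc, ← pt_comp, show (q hJ ℓ' h1').comp m = β''.comp (q hJ ℓ h1)
      from AlgHom.ext fun v => (hℓ v.1.2).symm]

end Pairs

theorem pt_id' {B : Type u} [CommRing B] [Algebra R B] : pt (AlgHom.id R B) = 𝟙 (sp R B) := by
  ext1
  simp
  rfl

/-- A point congruent to the unit is its own pushforward along the identity. -/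
theorem isPush_id {J : Ideal R} (hJ : J ^ 2 = ⊥) {B : Type u} [CommRing B] [Algebra R B] (V : LChart G B)
    (x : sp R B ⟶ G) (hx : pt (Ideal.Quotient.mkₐ R (J.map (algebraMap R B))) ≫ x = 1) :
    IsPush J hJ (LinearMap.id : B →ₗ[B] B) rfl x x := by
  obtain ⟨y, hy⟩ := exists_isHat (B := B) V hJ x hx
  refine ⟨y, hy, ?_⟩
  rw [show q hJ (LinearMap.id : B →ₗ[B] B) rfl = p₂ J B B from AlgHom.ext fun v => rfl, hy.2]

end Groth.Agent.ConjAvg
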